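import Mathlib
import Cfsg.Prelude.Def_Transfer
import Cfsg.Prelude.Def_PLocal
import Cfsg.Agent.Lib.Helper34.ConjAux
import Cfsg.Agent.Lib.Helper11.ThompsonOf

/-!
# Thompson-like functors

`ThompsonLike p Jt` : abstract properties of a characteristic subgroup functor `Jt` (such as the
Thompson subgroup) sufficient for the proof of Thompson's normal `p`-complement theorem.
`JOf Jt P` : the functor applied to a subgroup `P ≤ G`, viewed inside `G`.
-/

set_option autoImplicit false

namespace Cfsg.Agent.Lib.Helper34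

open Subgroup

universe u

/-- The "Of" form of a group functor: `Jt` applied to the subgroup `P`, viewed inside `G`. -/
def JOf (Jt : ∀ (S : Type u) [Group S], Subgroup S) {G : Type u} [Group G] (P : Subgroup G) :
    Subgroup G :=
  (Jt ↥P).map P.subtype

/-- Abstract properties of a Thompson-subgroup-like functor. -/
structure ThompsonLike (p : ℕ) (Jt : ∀ (S : Type u) [Group S], Subgroup S) : Prop where
  iso : ∀ {S S' : Type u} [Group S] [Group S'] (e : S ≃* S'), (Jt S).map e.toMonoidHom = Jt S'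
  ne_bot : ∀ (S : Type u) [Group S] [Finite S], IsPGroup p S → Nontrivial S → Jt S ≠ ⊥
  eq_of_le : ∀ (S : Type u) [Group S] [Finite S] (T : Subgroup S), IsPGroup p S → Jt S ≤ T →
    (Jt ↥T).map T.subtype = Jt S
  repl : ∀ (S : Type u) [Group S] [Finite S], IsPGroup p S → ∀ V : Subgroup S, V.Normal →
    Cfsg.IsElementaryAbelian p V → ¬ Jt S ≤ centralizer (V : Set S) →
    ∃ A : Subgroup S, IsMulCommutative A ∧ ¬ A ≤ centralizer (V : Set S) ∧
      V ≤ normalizer (A : Set S) ∧
      Nat.card V * Nat.card ↥(A ⊓ centralizer (V : Set S)) ≤ Nat.card A * Nat.card ↥(V ⊓ A)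

section Derived

variable {p : ℕ} {Jt : ∀ (S : Type u) [Group S], Subgroup S}

theorem JOf_le {G : Type u} [Group G] (P : Subgroup G) : JOf Jt P ≤ P :=
  Subgroup.map_subtype_le _

theorem JOf_map_of_injOn (hJ : ThompsonLike p Jt) {G G' : Type u} [Group G] [Group G']
    (f : G →* G') (P : Subgroup G) (hf : Set.InjOn f (P : Set G)) :
    JOf Jt (P.map f) = (JOf Jt P).map f := by
  have hinj : Function.Injective (f.subgroupMap P) := by
    intro x y hxy
    have h1 : f (x : G) = f (y : G) := congrArg Subtype.val hxy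
    exact Subtype.ext (hf x.2 y.2 h1)
  let e : ↥P ≃* ↥(P.map f) :=
    MulEquiv.ofBijective (f.subgroupMap P) ⟨hinj, f.subgroupMap_surjective P⟩
  have h1 : (Jt ↥P).map e.toMonoidHom = Jt ↥(P.map f) := hJ.iso e
  have h2 : (P.map f).subtype.comp e.toMonoidHom = f.comp P.subtype := by
    ext x; rfl
  unfold JOf
  rw [← h1, Subgroup.map_map, h2, Subgroup.map_map]

theorem JOf_map_of_injective (hJ : ThompsonLike p Jt) {G G' : Type u} [Group G] [Group G']
    (f : G →* G') (hf : Function.Injective f) (P : Subgroup G) :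
    JOf Jt (P.map f) = (JOf Jt P).map f :=
  JOf_map_of_injOn hJ f P (fun _ _ _ _ h => hf h)

theorem normalizer_le_normalizer_JOf (hJ : ThompsonLike p Jt) {G : Type u} [Group G]
    (P : Subgroup G) : normalizer (P : Set G) ≤ normalizer (JOf Jt P : Set G) := by
  intro g hg
  have h1 : P.map (MulAut.conj g).toMonoidHom = P := map_conj_eq_self_of_mem_normalizer hg
  have h2 := JOf_map_of_injective hJ (MulAut.conj g).toMonoidHom (MulAut.conj g).injective P
  rw [h1] at h2
  exact mem_normalizer_of_map_conj_eq_self h2.symm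

theorem JOf_ne_bot (hJ : ThompsonLike p Jt) {G : Type u} [Group G] [Finite G] (P : Subgroup G)
    (hP : IsPGroup p P) (hne : P ≠ ⊥) : JOf Jt P ≠ ⊥ := by
  have h1 : Jt ↥P ≠ ⊥ := hJ.ne_bot ↥P hP ((Subgroup.nontrivial_iff_ne_bot P).mpr hne)
  intro h2
  exact h1 ((Subgroup.map_eq_bot_iff_of_injective _ P.subtype_injective).mp h2)

theorem JOf_eq_of_le (hJ : ThompsonLike p Jt) {G : Type u} [Group G] [Finite G] {P T : Subgroup G}
    (hP : IsPGroup p P) (hTP : T ≤ P) (h : JOf Jt P ≤ T) : JOf Jt T = JOf Jt P := by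
  have h1 : Jt ↥P ≤ T.subgroupOf P := by
    intro x hx
    exact mem_subgroupOf.mpr (h ⟨x, hx, rfl⟩)
  have h2 := hJ.eq_of_le ↥P (T.subgroupOf P) hP h1
  have h3 := JOf_map_of_injective hJ P.subtype P.subtype_injective (T.subgroupOf P)
  rw [Subgroup.map_subgroupOf_eq_of_le hTP] at h3
  rw [h3]
  unfold JOf
  rw [h2]

theorem JOf_repl (hJ : ThompsonLike p Jt) {G : Type u} [Group G] [Finite G] (P V : Subgroup G)
    (hP : IsPGroup p P) (hVP : V ≤ P) (hVn : P ≤ normalizer (V : Set G))
    (hVe : Cfsg.IsElementaryAbelian p V) (h : ¬ JOf Jt P ≤ centralizer (V : Set G)) :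
    ∃ A : Subgroup G, A ≤ P ∧ IsMulCommutative A ∧ ¬ A ≤ centralizer (V : Set G) ∧
      V ≤ normalizer (A : Set G) ∧
      Nat.card V * Nat.card ↥(A ⊓ centralizer (V : Set G)) ≤ Nat.card A * Nat.card ↥(V ⊓ A) := by
  have hVn' : (V.subgroupOf P).Normal := Subgroup.normal_subgroupOf_of_le_normalizer hVn
  have hVmap : (V.subgroupOf P).map P.subtype = V := Subgroup.map_subgroupOf_eq_of_le hVP
  have hVe' : Cfsg.IsElementaryAbelian p (V.subgroupOf P) := by
    apply Cfsg.Agent.Lib.Helper11.elemAb_of_map P.subtype P.subtype_injective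
    rw [hVmap]; exact hVe
  -- transfer of centralizers
  have hcent : ∀ x : P, x ∈ centralizer ((V.subgroupOf P : Subgroup P) : Set P) ↔
      (x : G) ∈ centralizer (V : Set G) := by
    intro x
    rw [mem_centralizer_iff, mem_centralizer_iff]
    constructor
    · intro hx v hv
      have h1 := hx ⟨v, hVP hv⟩ (mem_subgroupOf.mpr hv)
      exact congrArg Subtype.val h1
    · intro hx v hv
      exact Subtype.ext (hx (v : G) (mem_subgroupOf.mp hv))
  have hnot : ¬ Jt ↥P ≤ centralizer ((V.subgroupOf P : Subgroup P) : Set P) := by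
    intro hle
    apply h
    rintro _ ⟨x, hx, rfl⟩
    exact (hcent x).mp (hle hx)
  obtain ⟨A, hAc, hAn, hVA, hcard⟩ := hJ.repl ↥P hP (V.subgroupOf P) hVn' hVe' hnot
  refine ⟨A.map P.subtype, Subgroup.map_subtype_le A, inferInstance, ?_, ?_, ?_⟩
  · intro hle
    apply hAn
    intro x hx
    exact (hcent x).mpr (hle ⟨x, hx, rfl⟩)
  · intro v hv
    have h1 : (⟨v, hVP hv⟩ : P) ∈ normalizer (A : Set P) := hVA (mem_subgroupOf.mpr hv)
    exact le_normalizer_map P.subtype ⟨⟨v, hVP hv⟩, h1, rfl⟩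
  · have e1 : Nat.card V = Nat.card (V.subgroupOf P) := by
      rw [← Subgroup.card_map_of_injective P.subtype_injective, hVmap]
    have e2 : Nat.card (A.map P.subtype) = Nat.card A :=
      Subgroup.card_map_of_injective P.subtype_injective
    have e3 : (A ⊓ centralizer ((V.subgroupOf P : Subgroup P) : Set P)).map P.subtype
        = A.map P.subtype ⊓ centralizer (V : Set G) := by
      ext y
      constructor
      · rintro ⟨x, ⟨hx1, hx2⟩, rfl⟩
        exact ⟨⟨x, hx1, rfl⟩, (hcent x).mp hx2⟩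
      · rintro ⟨⟨x, hx, rfl⟩, hy2⟩
        exact ⟨x, ⟨hx, (hcent x).mpr hy2⟩, rfl⟩
    have e4 : ((V.subgroupOf P) ⊓ A).map P.subtype = V ⊓ A.map P.subtype := by
      rw [Subgroup.map_inf _ _ _ P.subtype_injective, hVmap]
    rw [e1, e2, ← e3, ← e4, Subgroup.card_map_of_injective P.subtype_injective,
      Subgroup.card_map_of_injective P.subtype_injective]
    exact hcard

end Derived

end Cfsg.Agent.Lib.Helper34
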