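import Mathlib
import Cfsg.Prelude.Def_Transfer
import Cfsg.Prelude.Def_PLocal
import Cfsg.Agent.S0649
import Cfsg.Agent.Lib.Helper11.ThompsonOf
import Cfsg.Agent.Lib.Helper11.StableClosure
import Cfsg.Agent.Lib.Helper11.Replacement
import Cfsg.Agent.Lib.Helper11.ReplFamily
import Cfsg.Agent.Lib.Helper34.JFunctor
import Cfsg.Agent.Lib.Helper34.CoreAux
import Cfsg.Agent.Lib.Helper34.NPC

/-!
# The Thompson subgroups are Thompson-like

`thompsonLike_elem` : `Cfsg.thompsonSubgroup p` (elementary abelian version), `p` odd.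
`thompsonLike_ab` : `Cfsg.thompsonSubgroupA` (abelian version), any `p`.
-/

set_option autoImplicit false

namespace Cfsg.Agent.Lib.Helper34

open Subgroup
open Cfsg.Agent.Lib.Helper11

universe u

theorem isMulCommutative_sup_of_commute {G : Type*} [Group G] {B W : Subgroup G}
    (hB : IsMulCommutative B) (hW : IsMulCommutative W)
    (hc : ∀ b ∈ B, ∀ w ∈ W, b * w = w * b) : IsMulCommutative ↥(B ⊔ W) := by
  refine IsMulCommutative.of_setLike_mul_comm ?_
  intro x hx y hy
  obtain ⟨b1, hb1, w1, hw1, rfl⟩ := exists_mul_of_mem_sup_of_commute hc hx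
  obtain ⟨b2, hb2, w2, hw2, rfl⟩ := exists_mul_of_mem_sup_of_commute hc hy
  have e1 : b1 * b2 = b2 * b1 := setLike_mul_comm hb1 hb2
  have e2 : w1 * w2 = w2 * w1 := setLike_mul_comm hw1 hw2
  have e3 := hc b2 hb2 w1 hw1
  have e4 := hc b1 hb1 w2 hw2
  calc b1 * w1 * (b2 * w2) = b1 * (w1 * b2) * w2 := by group
    _ = b1 * (b2 * w1) * w2 := by rw [e3]
    _ = (b1 * b2) * (w1 * w2) := by group
    _ = (b2 * b1) * (w2 * w1) := by rw [e1, e2]
    _ = b2 * (b1 * w2) * w1 := by group
    _ = b2 * (w2 * b1) * w1 := by rw [e4]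
    _ = b2 * w2 * (b1 * w1) := by group

theorem elemAb_sup_of_commute {G : Type*} [Group G] {p : ℕ} {B W : Subgroup G}
    (hB : Cfsg.IsElementaryAbelian p B) (hW : Cfsg.IsElementaryAbelian p W)
    (hc : ∀ b ∈ B, ∀ w ∈ W, b * w = w * b) : Cfsg.IsElementaryAbelian p (B ⊔ W) := by
  refine ⟨isMulCommutative_sup_of_commute hB.1 hW.1 hc, ?_⟩
  intro x hx
  obtain ⟨b, hb, w, hw, rfl⟩ := exists_mul_of_mem_sup_of_commute hc hx
  have hcomm : Commute b w := hc b hb w hw
  rw [hcomm.mul_pow, hB.2 b hb, hW.2 w hw, one_mul]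

/-- Thompson's replacement theorem, packaged for a family `F` of abelian subgroups. -/
theorem repl_generic {S : Type u} [Group S] [Finite S] {p : ℕ} [Fact p.Prime] (hS : IsPGroup p S)
    (F : Set (Subgroup S))
    (hF1 : ∀ A ∈ F, IsMulCommutative A)
    (hF2 : ∀ A ∈ F, ∀ A' : Subgroup S, Nat.card A' = Nat.card A → IsMulCommutative A' →
      (p ≠ 2 → Monoid.exponent A' ∣ Monoid.exponent A) → A' ∈ F)
    (hF3 : ∀ A ∈ F, ∀ W : Subgroup S, Cfsg.IsElementaryAbelian p W → ∀ B : Subgroup S, B ≤ A →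
      (∀ b ∈ B, ∀ w ∈ W, b * w = w * b) → Nat.card ↥(B ⊔ W) ≤ Nat.card A)
    (V : Subgroup S) [hVn : V.Normal] (hVe : Cfsg.IsElementaryAbelian p V)
    (h : ¬ sSup F ≤ centralizer (V : Set S)) :
    ∃ A : Subgroup S, IsMulCommutative A ∧ ¬ A ≤ centralizer (V : Set S) ∧
      V ≤ normalizer (A : Set S) ∧
      Nat.card V * Nat.card ↥(A ⊓ centralizer (V : Set S)) ≤ Nat.card A * Nat.card ↥(V ⊓ A) := by
  classical
  have hVc : IsMulCommutative V := hVe.1
  let T : Set (Subgroup S) := {A | A ∈ F ∧ ¬ A ≤ centralizer (V : Set S)}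
  have hTne : Nonempty T := by
    by_contra hne
    apply h
    rw [sSup_le_iff]
    intro A hA
    by_contra hA2
    exact hne ⟨⟨A, hA, hA2⟩⟩
  obtain ⟨⟨A, hAF, hAnc⟩, hmax⟩ :=
    Finite.exists_max (fun A : T => Nat.card ↥((A : Subgroup S) ⊓ V))
  have hA := hF1 A hAF
  have hVcent : V ≤ centralizer (V : Set S) := by
    intro v hv
    rw [mem_centralizer_iff]
    intro w hw
    exact setLike_mul_comm hw hv
  have hVA : V ≤ normalizer (A : Set S) := by
    by_contra hnot
    have hBA : ⁅V, V⁆ ≤ A := by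
      have h1 : ⁅V, V⁆ = ⊥ := by
        rw [Subgroup.commutator_eq_bot_iff_le_centralizer]; exact hVcent
      rw [h1]; exact bot_le
    obtain ⟨b, hb, hbN, hbA⟩ := Cfsg.Agent.S0649.result hS V (fun _ => hVc) A hA hBA hnot
    obtain ⟨r1, r2, r3, r4, r5, r6, r7, r8, r9, r10⟩ :=
      repl_main A V b hS (fun _ => hVc) hA hBA hnot hb hbN hbA
    have hmem : starB A b ∈ F := hF2 A hAF (starB A b) r1 r2 r10
    by_cases hst : starB A b ≤ centralizer (V : Set S)
    · have h1 := hF3 (starB A b) hmem V hVe (starB A b) le_rfl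
        (fun x hx w hw => ((mem_centralizer_iff.mp (hst hx)) w hw).symm)
      have h2 : starB A b ⊔ V = starB A b := (Subgroup.eq_of_le_of_card_ge le_sup_left h1).symm
      have h3 : V ≤ starB A b := by rw [← h2]; exact le_sup_right
      exact hnot (h3.trans r7)
    · have hle := hmax ⟨starB A b, hmem, hst⟩
      simp only at hle
      have heq := Subgroup.eq_of_le_of_card_ge r4.le hle
      exact r4.ne heq
  refine ⟨A, hA, hAnc, hVA, ?_⟩
  have h1 := hF3 A hAF V hVe (A ⊓ centralizer (V : Set S)) inf_le_left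
    (fun b hb w hw => ((mem_centralizer_iff.mp hb.2) w hw).symm)
  have h2 := card_sup_mul_card_inf (A ⊓ centralizer (V : Set S)) V
  have h3 : V ⊓ (A ⊓ centralizer (V : Set S)) = V ⊓ A := by
    apply le_antisymm
    · exact inf_le_inf_left V inf_le_left
    · exact le_inf inf_le_left (le_inf inf_le_right (inf_le_left.trans hVcent))
  rw [h3] at h2
  calc Nat.card V * Nat.card ↥(A ⊓ centralizer (V : Set S))
      = Nat.card ↥((A ⊓ centralizer (V : Set S)) ⊔ V) * Nat.card ↥(V ⊓ A) := h2.symm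
    _ ≤ Nat.card A * Nat.card ↥(V ⊓ A) := Nat.mul_le_mul_right _ h1

/-- The elementary abelian Thompson subgroup is Thompson-like for odd `p`. -/
theorem thompsonLike_elem (p : ℕ) [Fact p.Prime] (hp2 : p ≠ 2) :
    ThompsonLike p (fun (S : Type u) [Group S] => Cfsg.thompsonSubgroup p S) where
  iso := fun e => thompsonSubgroup_map_equiv p e
  ne_bot := by
    intro S _ _ hS hnt hbot
    have hp : p.Prime := Fact.out
    obtain ⟨A, hA⟩ := maxElemAb_nonempty (S := S) p
    have hle : A ≤ Cfsg.thompsonSubgroup p S := le_thompson_of_mem hA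
    have hcard : p ∣ Nat.card S := by
      obtain ⟨n, hn⟩ := IsPGroup.iff_card.mp hS
      have h1 : 1 < Nat.card S := Finite.one_lt_card
      rw [hn] at h1 ⊢
      have hn0 : n ≠ 0 := by
        rintro rfl; simp at h1
      exact dvd_pow_self p hn0
    obtain ⟨x, hx⟩ := exists_prime_orderOf_dvd_card' p hcard
    have hZ : Cfsg.IsElementaryAbelian p (zpowers x) := by
      refine ⟨inferInstance, ?_⟩
      rintro a ⟨k, rfl⟩
      show (x ^ k) ^ p = 1
      rw [← zpow_natCast, ← zpow_mul, mul_comm, zpow_mul, zpow_natCast, ← hx, pow_orderOf_eq_one,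
        one_zpow]
    have h1 := hA.2 (zpowers x) hZ
    have h2 : Nat.card (zpowers x) = p := by rw [Nat.card_zpowers, hx]
    have h3 : A = ⊥ := le_bot_iff.mp (hbot ▸ hle)
    rw [h3, Subgroup.card_bot, h2] at h1
    have := hp.one_lt
    omega
  eq_of_le := by
    intro S _ _ T hS hJ
    have h1 := thompsonSubgroupOf_eq_of_le (p := p) (S := (⊤ : Subgroup S)) (T := T) le_top
      (by rw [thompsonSubgroupOf_top]; exact hJ)
    rw [thompsonSubgroupOf_top] at h1
    exact h1
  repl := by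
    intro S _ _ hS V hVn hVe h
    refine repl_generic hS (Cfsg.maxElementaryAbelianSubgroups p S) (fun A hA => hA.1.1) ?_ ?_ V hVe h
    · intro A hA A' hcard hc' hexp
      have hexpA : Monoid.exponent A ∣ p :=
        Monoid.exponent_dvd_of_forall_pow_eq_one
          (fun a : A => Subtype.ext (by simpa using hA.1.2 a a.2))
      have hexpA' : Monoid.exponent A' ∣ p := (hexp hp2).trans hexpA
      refine ⟨⟨hc', fun a ha => ?_⟩, fun B hB => by rw [hcard]; exact hA.2 B hB⟩
      have h1 : (⟨a, ha⟩ : A') ^ p = 1 := by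
        obtain ⟨k, hk⟩ := hexpA'
        rw [hk, pow_mul, Monoid.pow_exponent_eq_one, one_pow]
      have h2 := congrArg Subtype.val h1
      simpa using h2
    · intro A hA W hW B hBA hc
      exact hA.2 (B ⊔ W) (elemAb_sup_of_commute (elemAb_mono hBA hA.1) hW hc)

end Cfsg.Agent.Lib.Helper34
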