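import Mathlib
import Cfsg.Prelude.Def_Transfer

/-!
# Quadratic action of an element of odd prime order

`lemmaQ`: let `V` be an elementary abelian `p`-group, `p` odd, `α` an automorphism of `V` acting
quadratically (`[V, α, α] = 1`), and `Y` a `p'`-group of automorphisms of `V` normalized by `α` with
`C_Y(α) = 1`.  Then `Y = 1`.  (A Frobenius group with complement of order `p` cannot act faithfully with
the complement acting quadratically.)
-/

set_option autoImplicit false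

namespace Cfsg.Agent.Lib.Helper34

open scoped IsMulCommutative

section LemmaQ

variable {V : Type*} [Group V] [IsMulCommutative V] {p : ℕ}

theorem quad_pow_apply (α : MulAut V) (hquad : ∀ v : V, α (α v * v⁻¹) = α v * v⁻¹) (w : V) (i : ℕ) :
    (α ^ i) w = w * (α w * w⁻¹) ^ i := by
  induction i with
  | zero => simp
  | succ i ih =>
    have hc : α w = w * (α w * w⁻¹) := by rw [mul_comm w, inv_mul_cancel_right]
    calc (α ^ (i + 1)) w = α ((α ^ i) w) := by rw [pow_succ', MulAut.mul_apply]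
      _ = α w * (α w * w⁻¹) ^ i := by rw [ih, map_mul, map_pow, hquad]
      _ = w * (α w * w⁻¹) * (α w * w⁻¹) ^ i := by rw [← hc]
      _ = w * (α w * w⁻¹) ^ (i + 1) := by rw [mul_assoc, ← pow_succ']

theorem quad_norm_eq_one [Fact p.Prime] (hp2 : p ≠ 2) (hexp : ∀ v : V, v ^ p = 1) (α : MulAut V)
    (hquad : ∀ v : V, α (α v * v⁻¹) = α v * v⁻¹) (w : V) :
    ∏ i ∈ Finset.range p, (α ^ i) w = 1 := by
  have hp : p.Prime := Fact.out
  simp_rw [quad_pow_apply α hquad w]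
  rw [Finset.prod_mul_distrib, Finset.prod_const, Finset.card_range, hexp, one_mul,
    Finset.prod_pow_eq_pow_sum]
  obtain ⟨k, hk⟩ : ∃ k, p - 1 = 2 * k := by
    rcases hp.eq_two_or_odd' with h | h
    · exact absurd h hp2
    · obtain ⟨k, hk⟩ := h; exact ⟨k, by omega⟩
  have hsum : ∑ i ∈ Finset.range p, i = p * k := by
    have h1 := Finset.sum_range_id_mul_two p
    rw [hk] at h1
    have h2 : (∑ i ∈ Finset.range p, i) * 2 = (p * k) * 2 := by rw [h1]; ring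
    exact Nat.eq_of_mul_eq_mul_right (by norm_num) h2
  rw [hsum, pow_mul, hexp, one_pow]

theorem quad_pow_p_eq_one (hexp : ∀ v : V, v ^ p = 1) (α : MulAut V)
    (hquad : ∀ v : V, α (α v * v⁻¹) = α v * v⁻¹) : α ^ p = 1 := by
  ext w
  rw [quad_pow_apply α hquad, hexp, mul_one]; rfl

theorem lemmaQ [Finite V] [Fact p.Prime] (hp2 : p ≠ 2) (hexp : ∀ v : V, v ^ p = 1) (α : MulAut V)
    (hquad : ∀ v : V, α (α v * v⁻¹) = α v * v⁻¹)
    (Y : Subgroup (MulAut V)) (hYp : (Nat.card Y).Coprime p)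
    (hYα : ∀ y ∈ Y, α * y * α⁻¹ ∈ Y) (hfix : ∀ y ∈ Y, α * y * α⁻¹ = y → y = 1) : Y = ⊥ := by
  classical
  have hp : p.Prime := Fact.out
  have : Fintype Y := Fintype.ofFinite Y
  have hαp : α ^ p = 1 := quad_pow_p_eq_one hexp α hquad
  have hYαi : ∀ (i : ℕ), ∀ y ∈ Y, α ^ i * y * (α ^ i)⁻¹ ∈ Y := by
    intro i
    induction i with
    | zero => intro y hy; simpa using hy
    | succ i ih =>
      intro y hy
      have h1 := hYα _ (ih y hy)
      have e : α ^ (i + 1) * y * (α ^ (i + 1))⁻¹ = α * (α ^ i * y * (α ^ i)⁻¹) * α⁻¹ := by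
        rw [pow_succ']; group
      rw [e]; exact h1
  have hfixi : ∀ i, 0 < i → i < p → ∀ y ∈ Y, α ^ i * y * (α ^ i)⁻¹ = y → y = 1 := by
    intro i hi0 hip y hy hcomm
    apply hfix y hy
    have hc : Commute (α ^ i) y := by
      have h1 := congrArg (fun z => z * α ^ i) hcomm
      show α ^ i * y = y * α ^ i
      simpa [mul_assoc] using h1
    have hcop : Nat.Coprime i p :=
      ((Nat.Prime.coprime_iff_not_dvd hp).mpr (Nat.not_dvd_of_pos_of_lt hi0 hip)).symm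
    obtain ⟨j, -, hj⟩ := Nat.exists_mul_mod_eq_one_of_coprime hcop hp.one_lt
    have hα : α = (α ^ i) ^ j := by
      rw [← pow_mul, pow_eq_pow_mod (i * j) hαp, hj, pow_one]
    have hc2 : Commute α y := by rw [hα]; exact hc.pow_left j
    rw [hc2.eq, mul_inv_cancel_right]
  let T : V →* V := ∏ z : Y, ((z : MulAut V).toMonoidHom)
  have hT : ∀ v, T v = ∏ z : Y, (z : MulAut V) v := by
    intro v
    simp only [T, MonoidHom.finsetProd_apply]
    rfl
  have key : ∀ v : V, T v = v ^ Fintype.card Y := by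
    intro v
    have h1 : ∏ y : Y, ∏ i ∈ Finset.range p,
        ((y : MulAut V) * α ^ i * (y : MulAut V)⁻¹) v = 1 := by
      apply Finset.prod_eq_one
      intro y _
      have h2 : ∀ i, ((y : MulAut V) * α ^ i * (y : MulAut V)⁻¹) v
          = (y : MulAut V) ((α ^ i) ((y : MulAut V)⁻¹ v)) := fun i => rfl
      simp_rw [h2]
      rw [← map_prod, quad_norm_eq_one hp2 hexp α hquad, map_one]
    rw [Finset.prod_comm] at h1
    rw [← Finset.mul_prod_erase (Finset.range p) _ (Finset.mem_range.mpr hp.pos)] at h1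
    have h0 : ∏ y : Y, ((y : MulAut V) * α ^ 0 * (y : MulAut V)⁻¹) v = v ^ Fintype.card Y := by
      simp
    have hrest : ∏ i ∈ (Finset.range p).erase 0,
        ∏ y : Y, ((y : MulAut V) * α ^ i * (y : MulAut V)⁻¹) v = (T v)⁻¹ := by
      have hstep : ∀ i ∈ (Finset.range p).erase 0,
          ∏ y : Y, ((y : MulAut V) * α ^ i * (y : MulAut V)⁻¹) v = T ((α ^ i) v) := by
        intro i hi
        have hi0 : 0 < i := Nat.pos_of_ne_zero (Finset.ne_of_mem_erase hi)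
        have hip : i < p := Finset.mem_range.mp (Finset.mem_of_mem_erase hi)
        let φ : Y → Y := fun y =>
          ⟨(y : MulAut V) * (α ^ i * (y : MulAut V)⁻¹ * (α ^ i)⁻¹),
            Y.mul_mem y.2 (hYαi i _ (Y.inv_mem y.2))⟩
        have hφinj : Function.Injective φ := by
          intro y1 y2 h
          have h' : (y1 : MulAut V) * (α ^ i * (y1 : MulAut V)⁻¹ * (α ^ i)⁻¹)
              = (y2 : MulAut V) * (α ^ i * (y2 : MulAut V)⁻¹ * (α ^ i)⁻¹) :=
            congrArg Subtype.val h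
          have hw : (y2 : MulAut V)⁻¹ * y1 ∈ Y := Y.mul_mem (Y.inv_mem y2.2) y1.2
          have hfixed : α ^ i * ((y2 : MulAut V)⁻¹ * y1) * (α ^ i)⁻¹ = (y2 : MulAut V)⁻¹ * y1 := by
            have h3 : (y2 : MulAut V)⁻¹ * y1
                = (α ^ i * (y2 : MulAut V)⁻¹ * (α ^ i)⁻¹) * (α ^ i * (y1 : MulAut V)⁻¹ * (α ^ i)⁻¹)⁻¹ := by
              rw [eq_mul_inv_iff_mul_eq, mul_assoc, h', ← mul_assoc, inv_mul_cancel, one_mul]
            conv_rhs => rw [h3]
            group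
          have h4 := hfixi i hi0 hip _ hw hfixed
          exact Subtype.ext (inv_mul_eq_one.mp h4).symm
        have hφbij : Function.Bijective φ := Finite.injective_iff_bijective.mp hφinj
        rw [hT]
        refine Fintype.prod_bijective φ hφbij _ _ ?_
        intro y
        have e : (y : MulAut V) * α ^ i * (y : MulAut V)⁻¹
            = (y : MulAut V) * (α ^ i * (y : MulAut V)⁻¹ * (α ^ i)⁻¹) * α ^ i := by group
        rw [e]; rfl
      rw [Finset.prod_congr rfl hstep, ← map_prod]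
      have hN := quad_norm_eq_one hp2 hexp α hquad v
      rw [← Finset.mul_prod_erase (Finset.range p) _ (Finset.mem_range.mpr hp.pos)] at hN
      have h5 : ∏ i ∈ (Finset.range p).erase 0, (α ^ i) v = v⁻¹ := by
        rw [pow_zero] at hN
        exact eq_inv_of_mul_eq_one_right hN
      rw [h5, map_inv]
    rw [h0, hrest] at h1
    exact (mul_inv_eq_one.mp h1).symm
  have hcard : Fintype.card Y = Nat.card Y := (Nat.card_eq_fintype_card).symm
  rw [Subgroup.eq_bot_iff_forall]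
  intro y hy
  ext v
  show y v = v
  have h1 : T v = (y v) ^ Fintype.card Y := by
    have h2 : ∏ z : Y, ((⟨y, hy⟩ * z : Y) : MulAut V) v = ∏ z : Y, (z : MulAut V) v :=
      Fintype.prod_bijective (fun z : Y => ⟨y, hy⟩ * z) (Group.mulLeft_bijective _) _ _ (fun z => rfl)
    have h3 : ∏ z : Y, ((⟨y, hy⟩ * z : Y) : MulAut V) v = y (∏ z : Y, (z : MulAut V) v) := by
      rw [map_prod]; rfl
    rw [hT, ← h2, h3, ← hT, key v, map_pow]
  rw [key v] at h1
  have h4 : (y v * v⁻¹) ^ Fintype.card Y = 1 := by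
    rw [mul_pow, inv_pow, ← h1, mul_inv_cancel]
  have h5 : (y v * v⁻¹) ^ p = 1 := hexp _
  have h6 : orderOf (y v * v⁻¹) ∣ Fintype.card Y := orderOf_dvd_of_pow_eq_one h4
  have h7 : orderOf (y v * v⁻¹) ∣ p := orderOf_dvd_of_pow_eq_one h5
  have h8 : orderOf (y v * v⁻¹) = 1 := Nat.eq_one_of_dvd_coprimes (hcard ▸ hYp) h6 h7
  rw [orderOf_eq_one_iff] at h8
  exact mul_inv_eq_one.mp h8

end LemmaQ

section Endgame

variable {G : Type*} [Group G] {p : ℕ}

open Subgroup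

theorem conjNormal_eq_one_iff (V : Subgroup G) [V.Normal] (g : G) :
    (MulAut.conjNormal g : MulAut V) = 1 ↔ g ∈ centralizer (V : Set G) := by
  constructor
  · intro h
    rw [mem_centralizer_iff]
    intro v hv
    have h1 := congrArg (fun f : MulAut V => ((f ⟨v, hv⟩ : V) : G)) h
    simp only [MulAut.conjNormal_apply, MulAut.one_apply] at h1
    have h2 := congrArg (· * g) h1
    simp only [inv_mul_cancel_right] at h2
    exact h2.symm
  · intro h
    ext v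
    rw [MulAut.conjNormal_apply]
    have h1 := (mem_centralizer_iff.mp h) (v : G) v.2
    rw [← h1, mul_inv_cancel_right]
    rfl

/-- Odd endgame: a quadratically acting element centralizes, modulo `U = C_G(V)`, every normalized
subgroup `Q` with `Q/U` abelian of order prime to `p`. -/
theorem quadratic_commutator_mem [Finite G] [Fact p.Prime] (hp2 : p ≠ 2)
    (V U Q : Subgroup G) [hV : V.Normal] (hVe : Cfsg.IsElementaryAbelian p V)
    (hCV : centralizer (V : Set G) = U) (hQQ : ⁅Q, Q⁆ ≤ U) (hQp : (U.relIndex Q).Coprime p)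
    (a : G) (haQ : a ∈ normalizer (Q : Set G))
    (hquad : ∀ v ∈ V, (a * v * a⁻¹ * v⁻¹) * a = a * (a * v * a⁻¹ * v⁻¹)) :
    ∀ y ∈ Q, a * y * a⁻¹ * y⁻¹ ∈ U := by
  classical
  have : IsMulCommutative V := hVe.1
  let ρ : G →* MulAut V := MulAut.conjNormal
  have hker : ∀ g : G, ρ g = 1 ↔ g ∈ U := by
    intro g; rw [← hCV]; exact conjNormal_eq_one_iff V g
  let α : MulAut V := ρ a
  have hexp : ∀ v : V, v ^ p = 1 := by
    intro v; apply Subtype.ext; simpa using hVe.2 (v : G) v.2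
  have hq : ∀ v : V, α (α v * v⁻¹) = α v * v⁻¹ := by
    intro v
    apply Subtype.ext
    simp only [α, ρ, MulAut.conjNormal_apply, Subgroup.coe_mul, Subgroup.coe_inv]
    have h1 := hquad (v : G) v.2
    rw [← h1, mul_inv_cancel_right]
  let Γ : Subgroup (MulAut V) := Q.map ρ
  have hΓcomm : ∀ x ∈ Γ, ∀ y ∈ Γ, x * y = y * x := by
    rintro _ ⟨x, hx, rfl⟩ _ ⟨y, hy, rfl⟩
    have h1 : x * y * x⁻¹ * y⁻¹ ∈ U := hQQ (Subgroup.commutator_mem_commutator hx hy)
    have h2 := (hker _).mpr h1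
    rw [map_mul, map_mul, map_mul, map_inv, map_inv] at h2
    have h3 := congrArg (· * ρ y * ρ x) h2
    simpa [mul_assoc] using h3
  have hΓα : ∀ y ∈ Γ, α * y * α⁻¹ ∈ Γ := by
    rintro _ ⟨y, hy, rfl⟩
    refine ⟨a * y * a⁻¹, (mem_normalizer_iff.mp haQ y).mp hy, ?_⟩
    simp [α, map_mul]
  have hΓcard : (Nat.card Γ).Coprime p := by
    have h1 : ρ.ker = U := by ext g; rw [MonoidHom.mem_ker]; exact hker g
    have h2 := Subgroup.relIndex_ker (K := Q) ρ
    rw [h1] at h2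
    rw [← h2]; exact hQp
  let Y : Subgroup (MulAut V) :=
    { carrier := {y | ∃ γ ∈ Γ, y = α * γ * α⁻¹ * γ⁻¹}
      one_mem' := ⟨1, Γ.one_mem, by simp⟩
      mul_mem' := by
        rintro _ _ ⟨γ1, h1, rfl⟩ ⟨γ2, h2, rfl⟩
        refine ⟨γ1 * γ2, Γ.mul_mem h1 h2, ?_⟩
        have hc : γ1⁻¹ * (α * γ2 * α⁻¹ * γ2⁻¹) = (α * γ2 * α⁻¹ * γ2⁻¹) * γ1⁻¹ :=
          hΓcomm _ (Γ.inv_mem h1) _ (Γ.mul_mem (hΓα _ h2) (Γ.inv_mem h2))
        calc α * γ1 * α⁻¹ * γ1⁻¹ * (α * γ2 * α⁻¹ * γ2⁻¹)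
            = α * γ1 * α⁻¹ * (γ1⁻¹ * (α * γ2 * α⁻¹ * γ2⁻¹)) := by group
          _ = α * γ1 * α⁻¹ * ((α * γ2 * α⁻¹ * γ2⁻¹) * γ1⁻¹) := by rw [hc]
          _ = α * (γ1 * γ2) * α⁻¹ * (γ1 * γ2)⁻¹ := by group
      inv_mem' := by
        rintro _ ⟨γ, h, rfl⟩
        refine ⟨γ⁻¹, Γ.inv_mem h, ?_⟩
        have hc : γ * (α * γ⁻¹ * α⁻¹) = (α * γ⁻¹ * α⁻¹) * γ :=
          hΓcomm _ h _ (hΓα _ (Γ.inv_mem h))
        calc (α * γ * α⁻¹ * γ⁻¹)⁻¹ = γ * (α * γ⁻¹ * α⁻¹) := by group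
          _ = (α * γ⁻¹ * α⁻¹) * γ := hc
          _ = α * γ⁻¹ * α⁻¹ * γ⁻¹⁻¹ := by group }
  have hYΓ : Y ≤ Γ := by
    rintro _ ⟨γ, h, rfl⟩
    exact Γ.mul_mem (hΓα _ h) (Γ.inv_mem h)
  have hYp : (Nat.card Y).Coprime p :=
    Nat.Coprime.coprime_dvd_left (Subgroup.card_dvd_of_le hYΓ) hΓcard
  have hYα : ∀ y ∈ Y, α * y * α⁻¹ ∈ Y := by
    rintro _ ⟨γ, h, rfl⟩
    exact ⟨α * γ * α⁻¹, hΓα _ h, by group⟩
  have hαp : α ^ p = 1 := quad_pow_p_eq_one hexp α hq
  have hfix : ∀ y ∈ Y, α * y * α⁻¹ = y → y = 1 := by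
    rintro _ ⟨γ, h, rfl⟩ hfixed
    have hyΓ : α * γ * α⁻¹ * γ⁻¹ ∈ Γ := hYΓ ⟨γ, h, rfl⟩
    have hcomm : Commute α (α * γ * α⁻¹ * γ⁻¹) := by
      show α * (α * γ * α⁻¹ * γ⁻¹) = (α * γ * α⁻¹ * γ⁻¹) * α
      have h1 := congrArg (· * α) hfixed
      simpa [mul_assoc] using h1
    have hmem : ∀ i : ℕ, α ^ i * γ * (α ^ i)⁻¹ ∈ Γ := by
      intro i
      induction i with
      | zero => simpa using h
      | succ i ih =>
        have h1 := hΓα _ ih
        have e : α ^ (i + 1) * γ * (α ^ (i + 1))⁻¹ = α * (α ^ i * γ * (α ^ i)⁻¹) * α⁻¹ := by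
          rw [pow_succ']; group
        rw [e]; exact h1
    have : IsMulCommutative Γ := ⟨⟨fun x y => Subtype.ext (hΓcomm x x.2 y y.2)⟩⟩
    let f : ℕ → Γ := fun i => ⟨α ^ i * γ * (α ^ i)⁻¹, hmem i⟩
    have htel := Finset.prod_range_div f p
    have hfp : f p = f 0 := by
      apply Subtype.ext
      simp [f, hαp]
    have hstep : ∀ i, f (i + 1) / f i = ⟨α * γ * α⁻¹ * γ⁻¹, hyΓ⟩ := by
      intro i
      apply Subtype.ext
      show α ^ (i + 1) * γ * (α ^ (i + 1))⁻¹ / (α ^ i * γ * (α ^ i)⁻¹) = α * γ * α⁻¹ * γ⁻¹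
      have e : α ^ (i + 1) * γ * (α ^ (i + 1))⁻¹ / (α ^ i * γ * (α ^ i)⁻¹)
          = α ^ i * (α * γ * α⁻¹ * γ⁻¹) * (α ^ i)⁻¹ := by
        rw [div_eq_mul_inv, pow_succ']; group
      rw [e, (hcomm.pow_left i).eq, mul_inv_cancel_right]
    simp_rw [hstep] at htel
    rw [Finset.prod_const, Finset.card_range, hfp, div_self'] at htel
    have hyp : (α * γ * α⁻¹ * γ⁻¹) ^ p = 1 := by
      have h1 := congrArg Subtype.val htel
      simpa using h1
    have h6 : orderOf (α * γ * α⁻¹ * γ⁻¹) ∣ p := orderOf_dvd_of_pow_eq_one hyp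
    have h7 : orderOf (α * γ * α⁻¹ * γ⁻¹) ∣ Nat.card Γ := Subgroup.orderOf_dvd_natCard Γ hyΓ
    have h8 : orderOf (α * γ * α⁻¹ * γ⁻¹) = 1 := Nat.eq_one_of_dvd_coprimes hΓcard h7 h6
    exact orderOf_eq_one_iff.mp h8
  have hYbot := lemmaQ hp2 hexp α hq Y hYp hYα hfix
  intro y hy
  rw [← hker]
  have h1 : α * ρ y * α⁻¹ * (ρ y)⁻¹ ∈ Y := ⟨ρ y, ⟨y, hy, rfl⟩, rfl⟩
  rw [hYbot, Subgroup.mem_bot] at h1
  rw [map_mul, map_mul, map_mul, map_inv, map_inv]
  exact h1

end Endgame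

end Cfsg.Agent.Lib.Helper34
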