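import Mathlib
import Cfsg.Prelude.Def_Transfer
import Cfsg.Agent.Lib.Helper54.Frobenius
import Cfsg.Agent.Lib.Helper54.Stability
import Cfsg.Agent.Lib.Helper11.StableClosure
import Cfsg.Agent.Lib.Helper34.NPC
import Cfsg.Agent.Lib.Helper34.JFunctor
import Cfsg.Agent.Lib.Helper34.QuadAction

/-!
# Thompson's normal `p`-complement theorem: the minimal counterexample reduction

For a Thompson-like functor `Jt` (see `JFunctor.lean`), a Sylow `p`-subgroup `P` of a finite group `G`
satisfies `ThHyp p Jt P` when `N_G(J(P))` and `C_G(Z(P))` have normal `p`-complements (internal form).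
The reduction shows that a minimal counterexample has the structure `Endgame`.
-/

set_option autoImplicit false

namespace Cfsg.Agent.Lib.Helper34

open Subgroup
open Cfsg.Agent.Lib.Helper54
open scoped commutatorElement

universe u

section Basic

variable {p : ℕ} {Jt : ∀ (S : Type u) [Group S], Subgroup S}

/-- The hypotheses of Thompson's theorem, in internal form. -/
def ThHyp (p : ℕ) (Jt : ∀ (S : Type u) [Group S], Subgroup S) {G : Type u} [Group G]
    (P : Subgroup G) : Prop :=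
  IFC p (normalizer (JOf Jt P : Set G)) ∧
    IFC p (centralizer ((P ⊓ centralizer (P : Set G) : Subgroup G) : Set G))

theorem centralizer_map_conj {G : Type*} [Group G] (K : Subgroup G) (g : G) :
    centralizer ((K.map (MulAut.conj g).toMonoidHom : Subgroup G) : Set G)
      = (centralizer (K : Set G)).map (MulAut.conj g).toMonoidHom := by
  ext x
  rw [mem_map_conj, mem_centralizer_iff, mem_centralizer_iff]
  constructor
  · intro h k hk
    have h1 := h (g * k * g⁻¹) (conj_mem_map_conj hk)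
    calc k * (g⁻¹ * x * g) = g⁻¹ * ((g * k * g⁻¹) * x) * g := by group
      _ = g⁻¹ * (x * (g * k * g⁻¹)) * g := by rw [h1]
      _ = g⁻¹ * x * g * k := by group
  · intro h y hy
    have hy' : g⁻¹ * y * g ∈ K := mem_map_conj.mp hy
    have h1 := h _ hy'
    calc y * x = g * ((g⁻¹ * y * g) * (g⁻¹ * x * g)) * g⁻¹ := by group
      _ = g * ((g⁻¹ * x * g) * (g⁻¹ * y * g)) * g⁻¹ := by rw [h1]
      _ = x * y := by group

theorem thHyp_conj (hJ : ThompsonLike p Jt) {G : Type u} [Group G] {P : Subgroup G}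
    (h : ThHyp p Jt P) (g : G) : ThHyp p Jt (P.map (MulAut.conj g).toMonoidHom) := by
  constructor
  · rw [JOf_map_of_injective hJ _ (MulAut.conj g).injective, normalizer_map_conj]
    exact h.1.conj g
  · rw [← Cfsg.Agent.Lib.Helper11.map_inf_centralizer _ (MulAut.conj g).injective,
      centralizer_map_conj]
    exact h.2.conj g

/-- The hypotheses for a subgroup `M`, from information inside `G`. -/
theorem thHyp_sub (hJ : ThompsonLike p Jt) {G : Type u} [Group G] (M : Subgroup G)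
    (X : Subgroup ↥M)
    (h1 : IFC p (M ⊓ normalizer (JOf Jt (X.map M.subtype) : Set G)))
    (h2 : IFC p (M ⊓ centralizer ((X.map M.subtype ⊓ centralizer ((X.map M.subtype : Subgroup G) : Set G)
      : Subgroup G) : Set G))) : ThHyp p Jt X := by
  constructor
  · apply IFC.of_map_of_injective M.subtype M.subtype_injective
    refine h1.mono (le_inf (map_subtype_le _) ?_)
    rw [JOf_map_of_injective hJ M.subtype M.subtype_injective]
    exact le_normalizer_map M.subtype
  · apply IFC.of_map_of_injective M.subtype M.subtype_injective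
    refine h2.mono (le_inf (map_subtype_le _) ?_)
    rw [← Cfsg.Agent.Lib.Helper11.map_inf_centralizer _ M.subtype_injective]
    have h3 := Subgroup.map_centralizer_le_centralizer_image
      ((X ⊓ centralizer (X : Set ↥M) : Subgroup ↥M) : Set ↥M) M.subtype
    rw [← Subgroup.coe_map] at h3
    exact h3

theorem conj_mem_inf_centralizer {G : Type*} [Group G] {S : Subgroup G} {g x : G}
    (hg : g ∈ normalizer (S : Set G)) (hx : x ∈ S ⊓ centralizer (S : Set G)) :
    g * x * g⁻¹ ∈ S ⊓ centralizer (S : Set G) := by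
  obtain ⟨hx1, hx2⟩ := Subgroup.mem_inf.mp hx
  refine Subgroup.mem_inf.mpr ⟨(mem_normalizer_iff.mp hg x).mp hx1, ?_⟩
  rw [mem_centralizer_iff]
  intro s hs
  have hs' : g⁻¹ * s * g ∈ S := by
    have h1 := (mem_normalizer_iff.mp (inv_mem hg) s).mp hs
    rwa [inv_inv] at h1
  have h2 := (mem_centralizer_iff.mp hx2) _ hs'
  calc s * (g * x * g⁻¹) = g * ((g⁻¹ * s * g) * x) * g⁻¹ := by group
    _ = g * (x * (g⁻¹ * s * g)) * g⁻¹ := by rw [h2]
    _ = g * x * g⁻¹ * s := by group

theorem normalizer_le_normalizer_inf_centralizer {G : Type*} [Group G] (S : Subgroup G) :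
    normalizer (S : Set G) ≤ normalizer ((S ⊓ centralizer (S : Set G) : Subgroup G) : Set G) := by
  intro g hg
  rw [mem_normalizer_iff]
  intro x
  constructor
  · intro hx; exact conj_mem_inf_centralizer hg hx
  · intro hx
    have h1 := conj_mem_inf_centralizer (inv_mem hg) hx
    have e : g⁻¹ * (g * x * g⁻¹) * g⁻¹⁻¹ = x := by group
    rw [e] at h1
    exact h1

theorem inf_centralizer_ne_bot {G : Type*} [Group G] [Finite G] [Fact p.Prime] {S : Subgroup G}
    (hS : IsPGroup p S) (hne : S ≠ ⊥) : S ⊓ centralizer (S : Set G) ≠ ⊥ := by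
  have : Nontrivial S := (Subgroup.nontrivial_iff_ne_bot S).mpr hne
  have h1 : Nontrivial (Subgroup.center S) := hS.center_nontrivial
  obtain ⟨z, hz⟩ := exists_ne (1 : Subgroup.center S)
  intro hbot
  apply hz
  have h2 : ((z : S) : G) ∈ S ⊓ centralizer (S : Set G) := by
    refine Subgroup.mem_inf.mpr ⟨(z : S).2, ?_⟩
    rw [mem_centralizer_iff]
    intro s hs
    have h3 := (Subgroup.mem_center_iff.mp z.2) ⟨s, hs⟩
    exact congrArg Subtype.val h3
  rw [hbot, Subgroup.mem_bot] at h2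
  exact Subtype.ext (Subtype.ext h2)

end Basic

section Choice

variable {p : ℕ} {Jt : ∀ (S : Type u) [Group S], Subgroup S}

theorem p_dvd_card_of_ne_bot {G : Type*} [Group G] [Finite G] [Fact p.Prime] {U : Subgroup G}
    (hU : IsPGroup p U) (hne : U ≠ ⊥) : p ∣ Nat.card U := by
  obtain ⟨a, ha⟩ := IsPGroup.iff_card.mp hU
  have ha0 : a ≠ 0 := by
    rintro rfl
    rw [pow_zero] at ha
    exact hne (Subgroup.eq_bot_of_card_eq U ha)
  rw [ha]; exact dvd_pow_self p ha0

/-- A lexicographically maximal nontrivial `p`-subgroup whose normalizer has no normal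
`p`-complement. -/
theorem exists_max_bad {G : Type u} [Group G] [Finite G] [Fact p.Prime]
    (h : ¬ Cfsg.HasNormalPComplement p G) :
    ∃ U : Subgroup G, IsPGroup p U ∧ U ≠ ⊥ ∧ ¬ IFC p (normalizer (U : Set G)) ∧
      (∀ Q : Subgroup G, IsPGroup p Q → Q ≠ ⊥ →
        (Nat.card (normalizer (U : Set G))).factorization p
          < (Nat.card (normalizer (Q : Set G))).factorization p → IFC p (normalizer (Q : Set G))) ∧
      (∀ Q : Subgroup G, IsPGroup p Q → Q ≠ ⊥ →
        (Nat.card (normalizer (U : Set G))).factorization p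
          = (Nat.card (normalizer (Q : Set G))).factorization p → Nat.card U < Nat.card Q →
          IFC p (normalizer (Q : Set G))) := by
  classical
  have hex : ∃ Q : Subgroup G, IsPGroup p Q ∧ Q ≠ ⊥ ∧ ¬ IFC p (normalizer (Q : Set G)) := by
    by_contra hne
    apply h
    rw [frobenius_local]
    intro Q hQ hQne
    rw [← ifc_iff_hnpc]
    by_contra hbad
    exact hne ⟨Q, hQ, hQne, hbad⟩
  let 𝓗 : Set (Subgroup G) := {Q | IsPGroup p Q ∧ Q ≠ ⊥ ∧ ¬ IFC p (normalizer (Q : Set G))}
  have hne : Nonempty 𝓗 := by obtain ⟨Q, hQ⟩ := hex; exact ⟨⟨Q, hQ⟩⟩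
  obtain ⟨⟨U, hU1, hU2, hU3⟩, hmax⟩ := Finite.exists_max (fun Q : 𝓗 =>
    (Nat.card (normalizer ((Q : Subgroup G) : Set G))).factorization p * (Nat.card G + 1)
      + Nat.card (Q : Subgroup G))
  have hcU : Nat.card U ≤ Nat.card G := Subgroup.card_le_card_group U
  refine ⟨U, hU1, hU2, hU3, ?_, ?_⟩
  · intro Q hQ hQne hlt
    by_contra hbad
    have h1 := hmax ⟨Q, hQ, hQne, hbad⟩
    simp only at h1
    have h2 : ((Nat.card (normalizer (U : Set G))).factorization p + 1) * (Nat.card G + 1)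
        ≤ (Nat.card (normalizer (Q : Set G))).factorization p * (Nat.card G + 1) :=
      Nat.mul_le_mul_right _ hlt
    rw [add_mul, one_mul] at h2
    omega
  · intro Q hQ hQne heq hlt
    by_contra hbad
    have h1 := hmax ⟨Q, hQ, hQne, hbad⟩
    simp only at h1
    rw [heq] at h1
    omega

/-- Step 3: the maximal bad subgroup is normal. -/
theorem normalizer_eq_top_of_max (hJ : ThompsonLike p Jt) {G : Type u} [Group G] [Finite G]
    [Fact p.Prime] (P : Sylow p G) (hyp : ThHyp p Jt (P : Subgroup G))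
    (ihsub : ∀ M : Subgroup G, M ≠ ⊤ → ∀ S : Sylow p ↥M, ThHyp p Jt (S : Subgroup ↥M) → IFC p M)
    (U : Subgroup G) (hUp : IsPGroup p U) (hUne : U ≠ ⊥)
    (hUbad : ¬ IFC p (normalizer (U : Set G)))
    (hM1 : ∀ Q : Subgroup G, IsPGroup p Q → Q ≠ ⊥ →
        (Nat.card (normalizer (U : Set G))).factorization p
          < (Nat.card (normalizer (Q : Set G))).factorization p → IFC p (normalizer (Q : Set G))) :
    normalizer (U : Set G) = ⊤ := by
  have hp : p.Prime := Fact.out
  by_contra hNtop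
  set N : Subgroup G := normalizer (U : Set G) with hN
  let S_N : Sylow p ↥N := default
  set S : Subgroup G := (S_N : Subgroup ↥N).map N.subtype with hS
  have hSp : IsPGroup p S := S_N.2.map _
  have hScard : Nat.card S = p ^ (Nat.card N).factorization p := by
    rw [hS, Subgroup.card_map_of_injective N.subtype_injective]; exact S_N.card_eq_multiplicity
  have hpN : p ∣ Nat.card N :=
    (p_dvd_card_of_ne_bot hUp hUne).trans (Subgroup.card_dvd_of_le le_normalizer)
  have hνpos : 0 < (Nat.card N).factorization p :=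
    hp.factorization_pos_of_dvd Nat.card_pos.ne' hpN
  have hSne : S ≠ ⊥ := by
    intro hbot
    rw [hbot, Subgroup.card_bot] at hScard
    have h1 : 1 < p ^ (Nat.card N).factorization p := Nat.one_lt_pow hνpos.ne' hp.one_lt
    omega
  have key : ThHyp p Jt S := by
    by_cases hcard : Nat.card S = Nat.card (P : Subgroup G)
    · have hSyl : Nat.card S = p ^ (Nat.card G).factorization p := by
        rw [hcard]; exact P.card_eq_multiplicity
      obtain ⟨g, hg⟩ := MulAction.exists_smul_eq G P (Sylow.ofCard S hSyl)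
      have h1 : ((g • P : Sylow p G) : Subgroup G) = S := by rw [hg, Sylow.coe_ofCard]
      have hSP : S = (P : Subgroup G).map (MulAut.conj g).toMonoidHom := h1.symm
      rw [hSP]
      exact thHyp_conj hJ hyp g
    · obtain ⟨P', hP'⟩ := hSp.exists_le_sylow
      have hlt : S < (P' : Subgroup G) := by
        refine lt_of_le_of_ne hP' ?_
        intro heq
        apply hcard
        rw [heq, P'.card_eq_multiplicity, P.card_eq_multiplicity]
      obtain ⟨y, hyP', hyN, hyS⟩ := exists_mem_normalizer_not_mem P'.2 hlt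
      have hTp : IsPGroup p ((P' : Subgroup G) ⊓ normalizer (S : Set G) : Subgroup G) :=
        P'.2.to_le inf_le_left
      have hST : S < (P' : Subgroup G) ⊓ normalizer (S : Set G) := by
        refine lt_of_le_of_ne (le_inf hP' le_normalizer) ?_
        intro heq
        apply hyS
        rw [heq]
        exact Subgroup.mem_inf.mpr ⟨hyP', hyN⟩
      have hν : ∀ X : Subgroup G, normalizer (S : Set G) ≤ normalizer (X : Set G) →
          (Nat.card N).factorization p < (Nat.card (normalizer (X : Set G))).factorization p := by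
        intro X hX
        have hTX : (P' : Subgroup G) ⊓ normalizer (S : Set G) ≤ normalizer (X : Set G) :=
          inf_le_right.trans hX
        obtain ⟨t, ht⟩ := IsPGroup.iff_card.mp hTp
        have h1 : p ^ t ∣ Nat.card (normalizer (X : Set G)) := ht ▸ Subgroup.card_dvd_of_le hTX
        have h2 : t ≤ (Nat.card (normalizer (X : Set G))).factorization p :=
          (hp.pow_dvd_iff_le_factorization Nat.card_pos.ne').mp h1
        have h3 : Nat.card S < Nat.card ((P' : Subgroup G) ⊓ normalizer (S : Set G) : Subgroup G) :=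
          card_lt_card_of_lt hST
        rw [hScard, ht] at h3
        have h4 : (Nat.card N).factorization p < t := (Nat.pow_lt_pow_iff_right hp.one_lt).mp h3
        omega
      constructor
      · exact hM1 _ (hSp.to_le (JOf_le S)) (JOf_ne_bot hJ S hSp hSne)
          (hν _ (normalizer_le_normalizer_JOf hJ S))
      · exact (hM1 _ (hSp.to_le inf_le_left) (inf_centralizer_ne_bot hSp hSne)
          (hν _ (normalizer_le_normalizer_inf_centralizer S))).mono
            (Subgroup.centralizer_le_normalizer _)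
  exact hUbad (ihsub N hNtop S_N
    (thHyp_sub hJ N S_N (key.1.mono inf_le_right) (key.2.mono inf_le_right)))

end Choice

section MinCex

variable {p : ℕ} {Jt : ∀ (S : Type u) [Group S], Subgroup S}

/-- The context of a minimal counterexample after the first reductions. -/
structure MinCex (p : ℕ) (Jt : ∀ (S : Type u) [Group S], Subgroup S) {G : Type u} [Group G]
    (P : Sylow p G) (U : Subgroup G) : Prop where
  hJ : ThompsonLike p Jt
  hyp : ThHyp p Jt (P : Subgroup G)
  ihsub : ∀ M : Subgroup G, M ≠ ⊤ → ∀ S : Sylow p ↥M, ThHyp p Jt (S : Subgroup ↥M) → IFC p M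
  ihquot : ∀ (N : Subgroup G) [N.Normal], N ≠ ⊥ → ∀ S : Sylow p (G ⧸ N),
    ThHyp p Jt (S : Subgroup (G ⧸ N)) → Cfsg.HasNormalPComplement p (G ⧸ N)
  hnot : ¬ Cfsg.HasNormalPComplement p G
  Up : IsPGroup p U
  Une : U ≠ ⊥
  Un : U.Normal
  N1 : ∀ R : Subgroup G, R.Normal → IsPGroup p R → R ≤ U
  N2 : ∀ K : Subgroup G, IsPGroup p K → U < K → (P : Subgroup G) ≤ normalizer (K : Set G) →
    IFC p (normalizer (K : Set G))

theorem exists_minCex (hJ : ThompsonLike p Jt) {G : Type u} [Group G] [Finite G] [Fact p.Prime]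
    (P : Sylow p G) (hyp : ThHyp p Jt (P : Subgroup G))
    (ihsub : ∀ M : Subgroup G, M ≠ ⊤ → ∀ S : Sylow p ↥M, ThHyp p Jt (S : Subgroup ↥M) → IFC p M)
    (ihquot : ∀ (N : Subgroup G) [N.Normal], N ≠ ⊥ → ∀ S : Sylow p (G ⧸ N),
      ThHyp p Jt (S : Subgroup (G ⧸ N)) → Cfsg.HasNormalPComplement p (G ⧸ N))
    (hnot : ¬ Cfsg.HasNormalPComplement p G) : ∃ U : Subgroup G, MinCex p Jt P U := by
  have hp : p.Prime := Fact.out
  obtain ⟨U, hUp, hUne, hUbad, hM1, hM2⟩ := exists_max_bad hnot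
  have hNtop := normalizer_eq_top_of_max hJ P hyp ihsub U hUp hUne hUbad hM1
  have hUn : U.Normal := Subgroup.normalizer_eq_top_iff.mp hNtop
  have hN2 : ∀ K : Subgroup G, IsPGroup p K → U < K →
      (P : Subgroup G) ≤ normalizer (K : Set G) → IFC p (normalizer (K : Set G)) := by
    intro K hK hUK hPK
    have hKne : K ≠ ⊥ := by
      rintro rfl
      exact hUne (le_bot_iff.mp hUK.le)
    refine hM2 K hK hKne ?_ (card_lt_card_of_lt hUK)
    rw [hNtop, Subgroup.card_top]
    apply le_antisymm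
    · have h1 : p ^ (Nat.card G).factorization p ∣ Nat.card (normalizer (K : Set G)) := by
        rw [← P.card_eq_multiplicity]; exact Subgroup.card_dvd_of_le hPK
      exact (hp.pow_dvd_iff_le_factorization Nat.card_pos.ne').mp h1
    · have h2 : Nat.card (normalizer (K : Set G)) ∣ Nat.card G := Subgroup.card_subgroup_dvd_card _
      exact (Nat.factorization_le_iff_dvd Nat.card_pos.ne' Nat.card_pos.ne').mpr h2 p
  refine ⟨U, hJ, hyp, ihsub, ihquot, hnot, hUp, hUne, hUn, ?_, hN2⟩
  intro R hRn hRp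
  by_contra hRU
  have hsup : IsPGroup p (R ⊔ U : Subgroup G) := IsPGroup.to_sup_of_normal_right hRp hUp
  have hlt : U < R ⊔ U := lt_of_le_of_ne le_sup_right (fun heq => hRU (heq ▸ le_sup_left))
  have hn : (R ⊔ U).Normal := inferInstance
  have h1 := hN2 (R ⊔ U) hsup hlt (by rw [Subgroup.normalizer_eq_top_iff.mpr hn]; exact le_top)
  rw [Subgroup.normalizer_eq_top_iff.mpr hn] at h1
  exact hnot (ifc_top_iff.mp h1)

theorem MinCex.le_sylow {G : Type u} [Group G] [Finite G] [Fact p.Prime] {P : Sylow p G}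
    {U : Subgroup G} (h : MinCex p Jt P U) : U ≤ (P : Subgroup G) := by
  have := h.Un
  have h1 : IsPGroup p (U ⊔ (P : Subgroup G) : Subgroup G) := IsPGroup.to_sup_of_normal_left h.Up P.2
  have h2 := P.is_maximal' h1 le_sup_right
  rw [← h2]; exact le_sup_left

/-- Step 5: `G/U` has a normal `p`-complement. -/
theorem MinCex.hnpc_quot {G : Type u} [Group G] [Finite G] [Fact p.Prime] {P : Sylow p G}
    {U : Subgroup G} [hUn : U.Normal] (h : MinCex p Jt P U) :
    Cfsg.HasNormalPComplement p (G ⧸ U) := by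
  have hp : p.Prime := Fact.out
  have hsurj := QuotientGroup.mk'_surjective U
  let Pb : Sylow p (G ⧸ U) := P.mapSurjective hsurj
  have hPb : (Pb : Subgroup (G ⧸ U)) = (P : Subgroup G).map (QuotientGroup.mk' U) :=
    Sylow.coe_mapSurjective hsurj P
  by_cases hbot : (Pb : Subgroup (G ⧸ U)) = ⊥
  · rw [← ifc_top_iff]
    intro Q _ hQ g _ _ _
    obtain ⟨P', hP'⟩ := hQ.exists_le_sylow
    have h1 : Nat.card (P' : Subgroup (G ⧸ U)) = 1 := by
      rw [P'.card_eq_multiplicity, ← Pb.card_eq_multiplicity, hbot, Subgroup.card_bot]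
    have h2 : (P' : Subgroup (G ⧸ U)) = ⊥ := Subgroup.eq_bot_of_card_eq _ h1
    have h3 : Q = ⊥ := le_bot_iff.mp (h2 ▸ hP')
    rw [h3, mem_centralizer_iff]
    intro x hx
    have hx1 : x = 1 := Subgroup.mem_bot.mp hx
    rw [hx1, one_mul, mul_one]
  · apply h.ihquot U h.Une Pb
    have hPbp : IsPGroup p (Pb : Subgroup (G ⧸ U)) := Pb.2
    have aux : ∀ Xb : Subgroup (G ⧸ U), Xb ≤ (Pb : Subgroup (G ⧸ U)) → Xb ≠ ⊥ →
        (Pb : Subgroup (G ⧸ U)) ≤ normalizer (Xb : Set (G ⧸ U)) →
        IFC p (normalizer (Xb : Set (G ⧸ U))) := by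
      intro Xb hle hne hnorm
      have hUK : U ≤ Xb.comap (QuotientGroup.mk' U) := by
        intro u hu
        show (QuotientGroup.mk' U) u ∈ Xb
        have h1 : (QuotientGroup.mk' U) u = 1 := (QuotientGroup.eq_one_iff u).mpr hu
        rw [h1]; exact Xb.one_mem
      have hKp : IsPGroup p (Xb.comap (QuotientGroup.mk' U)) := by
        apply IsPGroup.comap_of_ker_isPGroup (hPbp.to_le hle)
        rw [QuotientGroup.ker_mk']; exact h.Up
      have hlt : U < Xb.comap (QuotientGroup.mk' U) := by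
        refine lt_of_le_of_ne hUK ?_
        intro heq
        obtain ⟨⟨xv, hxv⟩, hx1⟩ := (Subgroup.ne_bot_iff_exists_ne_one).mp hne
        obtain ⟨g, rfl⟩ := hsurj xv
        have h2 : g ∈ Xb.comap (QuotientGroup.mk' U) := hxv
        rw [← heq] at h2
        apply hx1
        apply Subtype.ext
        exact (QuotientGroup.eq_one_iff g).mpr h2
      have hPK : (P : Subgroup G) ≤ normalizer ((Xb.comap (QuotientGroup.mk' U) : Subgroup G) : Set G) := by
        rw [← Subgroup.comap_normalizer_eq_of_surjective Xb hsurj]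
        intro g hg
        exact hnorm (hPb ▸ ⟨g, hg, rfl⟩)
      have h1 := (h.N2 _ hKp hlt hPK).map (QuotientGroup.mk' U)
      rw [← Subgroup.comap_normalizer_eq_of_surjective Xb hsurj,
        Subgroup.map_comap_eq_self_of_surjective hsurj] at h1
      exact h1
    constructor
    · exact aux _ (JOf_le _) (JOf_ne_bot h.hJ _ hPbp hbot)
        (le_normalizer.trans (normalizer_le_normalizer_JOf h.hJ _))
    · exact (aux _ inf_le_left (inf_centralizer_ne_bot hPbp hbot)
        (le_normalizer.trans (normalizer_le_normalizer_inf_centralizer _))).mono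
          (Subgroup.centralizer_le_normalizer _)

/-- Step 6: `O_{p'}(G) = 1`. -/
theorem MinCex.pprime_eq_bot {G : Type u} [Group G] [Finite G] [Fact p.Prime] {P : Sylow p G}
    {U : Subgroup G} (h : MinCex p Jt P U) (D : Subgroup G) [hDn : D.Normal]
    (hD : (Nat.card D).Coprime p) : D = ⊥ := by
  by_contra hne
  apply h.hnot
  apply hnpc_of_quotient_coprime D hD
  have hsurj := QuotientGroup.mk'_surjective D
  let Ph : Sylow p (G ⧸ D) := P.mapSurjective hsurj
  have hPh : (Ph : Subgroup (G ⧸ D)) = (P : Subgroup G).map (QuotientGroup.mk' D) :=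
    Sylow.coe_mapSurjective hsurj P
  apply h.ihquot D hne Ph
  have hinj := injOn_mk_of_coprime (P : Subgroup G) D P.2 hD
  constructor
  · rw [hPh, JOf_map_of_injOn h.hJ _ _ hinj]
    exact (h.hyp.1.map (QuotientGroup.mk' D)).mono
      (normalizer_map_mk_le _ D (P.2.to_le (JOf_le _)) hD)
  · rw [hPh]
    have h1 : ((P : Subgroup G) ⊓ centralizer ((P : Subgroup G) : Set G)).map (QuotientGroup.mk' D)
        ≤ (P : Subgroup G).map (QuotientGroup.mk' D) ⊓
          centralizer (((P : Subgroup G).map (QuotientGroup.mk' D) : Subgroup (G ⧸ D)) : Set (G ⧸ D)) := by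
      rintro _ ⟨z, hz, rfl⟩
      obtain ⟨hz1, hz2⟩ := Subgroup.mem_inf.mp hz
      refine Subgroup.mem_inf.mpr ⟨⟨z, hz1, rfl⟩, ?_⟩
      rw [mem_centralizer_iff]
      rintro _ ⟨x, hx, rfl⟩
      rw [← map_mul, ← map_mul, (mem_centralizer_iff.mp hz2) x hx]
    have h2 := Subgroup.centralizer_le (SetLike.coe_subset_coe.mpr h1)
    exact (h.hyp.2.map (QuotientGroup.mk' D)).mono
      (h2.trans (centralizer_map_mk_le _ D (P.2.to_le inf_le_left) hD))

/-- A normal subgroup with the Frobenius condition is a `p`-group (as `O_{p'}(G) = 1`), hence lies in `U`. -/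
theorem MinCex.le_of_normal_ifc {G : Type u} [Group G] [Finite G] [Fact p.Prime] {P : Sylow p G}
    {U : Subgroup G} (h : MinCex p Jt P U) (C : Subgroup G) [hC : C.Normal] (hifc : IFC p C) :
    C ≤ U := by
  obtain ⟨D, hDn, hDC, hDcop, hDmem⟩ := exists_normal_pPrime_of_ifc C hifc
  have hDbot : D = ⊥ := h.pprime_eq_bot D hDcop
  apply h.N1 C hC
  apply isPGroup_subgroup_of_forall_coprime_eq_one
  intro x hx hxp
  have h1 := hDmem x hx hxp
  rw [hDbot] at h1
  exact Subgroup.mem_bot.mp h1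

/-- Step 7: `C_G(U) ≤ U`. -/
theorem MinCex.centralizer_le {G : Type u} [Group G] [Finite G] [Fact p.Prime] {P : Sylow p G}
    {U : Subgroup G} [hUn : U.Normal] (h : MinCex p Jt P U) :
    centralizer (U : Set G) ≤ U := by
  have hp : p.Prime := Fact.out
  obtain ⟨Lb, hLb⟩ := hasNormalPComplement_iff.mp h.hnpc_quot
  have hLbn : Lb.Normal := hLb.1
  -- the subgroup M = C ⊓ L
  have hM : IFC p (centralizer (U : Set G) ⊓ Lb.comap (QuotientGroup.mk' U)) := by
    intro Q hQM hQ g hg _ _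
    have hgC : g ∈ centralizer (U : Set G) := (Subgroup.mem_inf.mp hg).1
    have hQU : Q ≤ U := by
      intro x hx
      have hxL : (QuotientGroup.mk' U) x ∈ Lb := (Subgroup.mem_inf.mp (hQM hx)).2
      have h1 : (orderOf ((QuotientGroup.mk' U) x)).Coprime p := hLb.coprime_of_mem hxL
      obtain ⟨k, hk⟩ := hQ ⟨x, hx⟩
      have hk' : x ^ p ^ k = 1 := by
        have := congrArg Subtype.val hk
        simpa using this
      have h2 : ((QuotientGroup.mk' U) x) ^ p ^ k = 1 := by rw [← map_pow, hk', map_one]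
      have h3 := eq_one_of_pow_eq_one_of_coprime h2 h1
      exact (QuotientGroup.eq_one_iff x).mp h3
    exact Subgroup.centralizer_le (SetLike.coe_subset_coe.mpr hQU) hgC
  have hMU := h.le_of_normal_ifc _ hM
  -- C is a p-group
  apply h.N1 _ inferInstance
  apply isPGroup_subgroup_of_forall_coprime_eq_one
  intro x hx hxp
  have h1 : (orderOf ((QuotientGroup.mk' U) x)).Coprime p :=
    Nat.Coprime.coprime_dvd_left (orderOf_map_dvd _ x) hxp
  have h2 : (QuotientGroup.mk' U) x ∈ Lb := hLb.mem_of_coprime h1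
  have h3 : x ∈ U := hMU (Subgroup.mem_inf.mpr ⟨hx, h2⟩)
  exact eq_one_of_mem_pgroup_of_coprime h.Up h3 hxp

end MinCex

section Structure

variable {p : ℕ} {Jt : ∀ (S : Type u) [Group S], Subgroup S}

/-- Step 8: `G = QP` with `Q/U` an abelian `p'`-group on which `P/U` acts faithfully. -/
theorem MinCex.exists_Q {G : Type u} [Group G] [Finite G] [Fact p.Prime] {P : Sylow p G}
    {U : Subgroup G} [hUn : U.Normal] (h : MinCex p Jt P U) :
    ∃ Q : Subgroup G, Q.Normal ∧ U ≤ Q ∧ ⁅Q, Q⁆ ≤ U ∧ (U.relIndex Q).Coprime p ∧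
      Q ⊔ (P : Subgroup G) = ⊤ ∧
      ∀ x ∈ (P : Subgroup G), (∀ y ∈ Q, x * y * x⁻¹ * y⁻¹ ∈ U) → x ∈ U := by
  classical
  have hp : p.Prime := Fact.out
  have hsurj := QuotientGroup.mk'_surjective U
  obtain ⟨Lb, hLb⟩ := hasNormalPComplement_iff.mp h.hnpc_quot
  have hLbn : Lb.Normal := hLb.1
  have hcU := h.centralizer_le
  have hker : ∀ u ∈ U, (QuotientGroup.mk' U) u = 1 := fun u hu => (QuotientGroup.eq_one_iff u).mpr hu
  -- `L̄ ≠ 1`
  have hLbne : Lb ≠ ⊥ := by
    intro hbot
    apply h.hnot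
    rw [← ifc_top_iff]
    obtain ⟨k, hk⟩ := hLb.2.2
    rw [hbot, Subgroup.index_bot] at hk
    obtain ⟨a, ha⟩ := IsPGroup.iff_card.mp h.Up
    have hG : IsPGroup p G := IsPGroup.of_card (n := k + a)
      (by rw [Subgroup.card_eq_card_quotient_mul_card_subgroup U, hk, ha, pow_add])
    intro Q _ _ g _ _ hgp
    obtain ⟨j, hj⟩ := hG g
    have hg1 : g = 1 := eq_one_of_pow_eq_one_of_coprime hj hgp
    rw [hg1]; exact Subgroup.one_mem _
  -- p-elements mapping into `L̄` lie in `U`
  have hpel : ∀ s : G, (∃ k : ℕ, s ^ p ^ k = 1) → (QuotientGroup.mk' U) s ∈ Lb → s ∈ U := by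
    rintro s ⟨k, hk⟩ hs
    have h1 : (orderOf ((QuotientGroup.mk' U) s)).Coprime p := hLb.coprime_of_mem hs
    have h3 : ((QuotientGroup.mk' U) s) ^ p ^ k = 1 := by rw [← map_pow, hk, map_one]
    exact (QuotientGroup.eq_one_iff s).mp (eq_one_of_pow_eq_one_of_coprime h3 h1)
  -- the minimality claim
  have star : ∀ Q0 : Subgroup G, U ≤ Q0 → Q0 ⊔ (P : Subgroup G) ≠ ⊤ →
      Q0.map (QuotientGroup.mk' U) ≤ Lb → Q0 ≤ U := by
    intro Q0 hUQ0 hne hQ0L
    have hPM : (P : Subgroup G) ≤ Q0 ⊔ (P : Subgroup G) := le_sup_right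
    have hmap : ((P.subtype hPM : Sylow p ↥(Q0 ⊔ (P : Subgroup G))) :
        Subgroup ↥(Q0 ⊔ (P : Subgroup G))).map (Q0 ⊔ (P : Subgroup G)).subtype = (P : Subgroup G) := by
      rw [Sylow.coe_subtype, Subgroup.map_subgroupOf_eq_of_le hPM]
    have hth : ThHyp p Jt ((P.subtype hPM : Sylow p ↥(Q0 ⊔ (P : Subgroup G))) :
        Subgroup ↥(Q0 ⊔ (P : Subgroup G))) := by
      apply thHyp_sub h.hJ
      · rw [hmap]; exact h.hyp.1.mono inf_le_right
      · rw [hmap]; exact h.hyp.2.mono inf_le_right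
    have hifc := h.ihsub _ hne _ hth
    have hMp : IsPGroup p (Q0 ⊔ (P : Subgroup G) : Subgroup G) := by
      apply isPGroup_subgroup_of_forall_coprime_eq_one
      intro x hx hxp
      have h1 : x ∈ centralizer (U : Set G) := hifc U (hUQ0.trans le_sup_left) h.Up x hx
        (by rw [Subgroup.normalizer_eq_top_iff.mpr hUn]; exact mem_top x) hxp
      exact eq_one_of_mem_pgroup_of_coprime h.Up (hcU h1) hxp
    intro y hy
    obtain ⟨k, hk⟩ := hMp ⟨y, (le_sup_left : Q0 ≤ Q0 ⊔ (P : Subgroup G)) hy⟩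
    have hk' : y ^ p ^ k = 1 := by
      have := congrArg Subtype.val hk
      simpa using this
    exact hpel y ⟨k, hk'⟩ (hQ0L ⟨y, hy, rfl⟩)
  -- a `P`-invariant Sylow `q`-subgroup of `L̄`
  obtain ⟨q, hq, hqdvd⟩ := Nat.exists_prime_and_dvd (n := Nat.card Lb)
    (by intro h1; exact hLbne (Subgroup.eq_bot_of_card_eq Lb h1))
  have : Fact q.Prime := ⟨hq⟩
  let Q0 : Sylow q ↥Lb := default
  have hQ1ne : (Q0 : Subgroup ↥Lb).map Lb.subtype ≠ ⊥ := by
    intro hbot
    have h1 : Nat.card ((Q0 : Subgroup ↥Lb).map Lb.subtype) = 1 := by rw [hbot, Subgroup.card_bot]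
    rw [Subgroup.card_map_of_injective Lb.subtype_injective, Q0.card_eq_multiplicity] at h1
    have h2 : 0 < (Nat.card Lb).factorization q :=
      hq.factorization_pos_of_dvd Nat.card_pos.ne' hqdvd
    have h3 : 1 < q ^ (Nat.card Lb).factorization q := Nat.one_lt_pow h2.ne' hq.one_lt
    omega
  have hfrat : normalizer (((Q0 : Subgroup ↥Lb).map Lb.subtype : Subgroup (G ⧸ U)) : Set (G ⧸ U)) ⊔ Lb
      = ⊤ := Sylow.normalizer_sup_eq_top Q0
  have hidx : ¬ p ∣ (normalizer (((Q0 : Subgroup ↥Lb).map Lb.subtype : Subgroup (G ⧸ U)) :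
      Set (G ⧸ U))).index := by
    have h1 := card_sup_mul_card_inf
      (normalizer (((Q0 : Subgroup ↥Lb).map Lb.subtype : Subgroup (G ⧸ U)) : Set (G ⧸ U))) Lb
    rw [hfrat, Subgroup.card_top] at h1
    have h2 := Subgroup.card_mul_index
      (normalizer (((Q0 : Subgroup ↥Lb).map Lb.subtype : Subgroup (G ⧸ U)) : Set (G ⧸ U)))
    rw [← h2] at h1
    have h3 : (normalizer (((Q0 : Subgroup ↥Lb).map Lb.subtype : Subgroup (G ⧸ U)) :
        Set (G ⧸ U))).index * Nat.card ↥(Lb ⊓ normalizer (((Q0 : Subgroup ↥Lb).map Lb.subtype :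
          Subgroup (G ⧸ U)) : Set (G ⧸ U))) = Nat.card Lb := by
      have h4 : Nat.card (normalizer (((Q0 : Subgroup ↥Lb).map Lb.subtype : Subgroup (G ⧸ U)) :
          Set (G ⧸ U))) * ((normalizer (((Q0 : Subgroup ↥Lb).map Lb.subtype : Subgroup (G ⧸ U)) :
          Set (G ⧸ U))).index * Nat.card ↥(Lb ⊓ normalizer (((Q0 : Subgroup ↥Lb).map Lb.subtype :
          Subgroup (G ⧸ U)) : Set (G ⧸ U)))) = Nat.card (normalizer (((Q0 : Subgroup ↥Lb).map
          Lb.subtype : Subgroup (G ⧸ U)) : Set (G ⧸ U))) * Nat.card Lb := by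
        rw [← mul_assoc, h1, mul_comm]
      exact Nat.eq_of_mul_eq_mul_left Nat.card_pos h4
    intro hdvd
    have h5 : p ∣ Nat.card Lb := h3 ▸ Dvd.dvd.mul_right hdvd _
    exact (Nat.Prime.coprime_iff_not_dvd hp).mp hLb.2.1.symm h5
  let Pb : Sylow p (G ⧸ U) := P.mapSurjective hsurj
  have hPb : (Pb : Subgroup (G ⧸ U)) = (P : Subgroup G).map (QuotientGroup.mk' U) :=
    Sylow.coe_mapSurjective hsurj P
  obtain ⟨g, hg⟩ := exists_conj_le_of_not_dvd_index Pb _ hidx
  obtain ⟨Qb, hQbdef⟩ : ∃ Qb : Subgroup (G ⧸ U),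
      Qb = ((Q0 : Subgroup ↥Lb).map Lb.subtype).map (MulAut.conj g⁻¹).toMonoidHom := ⟨_, rfl⟩
  have hQbL : Qb ≤ Lb := by
    rw [hQbdef]
    rintro _ ⟨x, hx, rfl⟩
    have hxL : x ∈ Lb := map_subtype_le _ hx
    exact hLbn.conj_mem x hxL g⁻¹
  have hQbne : Qb ≠ ⊥ := by
    intro hbot; apply hQ1ne
    rw [hQbdef] at hbot
    exact (Subgroup.map_eq_bot_iff_of_injective _ (MulAut.conj g⁻¹).injective).mp hbot
  have hQbq : IsPGroup q Qb := by rw [hQbdef]; exact (Q0.2.map _).map _
  have hPbN : (Pb : Subgroup (G ⧸ U)) ≤ normalizer (Qb : Set (G ⧸ U)) := by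
    rw [hQbdef, normalizer_map_conj]
    intro x hx
    rw [mem_map_conj, inv_inv]
    exact hg (conj_mem_map_conj hx)
  have hUQ : U ≤ Qb.comap (QuotientGroup.mk' U) := by
    intro u hu
    show (QuotientGroup.mk' U) u ∈ Qb
    rw [hker u hu]; exact Qb.one_mem
  have hPQ : (P : Subgroup G) ≤ normalizer ((Qb.comap (QuotientGroup.mk' U) : Subgroup G) : Set G) := by
    rw [← Subgroup.comap_normalizer_eq_of_surjective Qb hsurj]
    intro x hx
    exact hPbN (hPb ▸ ⟨x, hx, rfl⟩)
  have hQnotU : ¬ Qb.comap (QuotientGroup.mk' U) ≤ U := by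
    intro hle
    obtain ⟨⟨xv, hxv⟩, hx1⟩ := (Subgroup.ne_bot_iff_exists_ne_one).mp hQbne
    obtain ⟨y, rfl⟩ := hsurj xv
    exact hx1 (Subtype.ext ((QuotientGroup.eq_one_iff y).mpr (hle hxv)))
  have hmapQ : (Qb.comap (QuotientGroup.mk' U)).map (QuotientGroup.mk' U) = Qb :=
    Subgroup.map_comap_eq_self_of_surjective hsurj Qb
  have hsup : Qb.comap (QuotientGroup.mk' U) ⊔ (P : Subgroup G) = ⊤ := by
    by_contra hne
    exact hQnotU (star _ hUQ hne (by rw [hmapQ]; exact hQbL))
  have hQn : (Qb.comap (QuotientGroup.mk' U)).Normal := by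
    rw [← Subgroup.normalizer_eq_top_iff, eq_top_iff, ← hsup]
    exact sup_le le_normalizer hPQ
  have hQbn : Qb.Normal := by rw [← hmapQ]; exact hQn.map _ hsurj
  refine ⟨Qb.comap (QuotientGroup.mk' U), hQn, hUQ, ?_, ?_, hsup, ?_⟩
  · -- `Q/U` is abelian
    have hcn : (⁅Qb, Qb⁆ : Subgroup (G ⧸ U)).Normal := inferInstance
    have hUQ1 : U ≤ (⁅Qb, Qb⁆ : Subgroup (G ⧸ U)).comap (QuotientGroup.mk' U) := by
      intro u hu
      show (QuotientGroup.mk' U) u ∈ ⁅Qb, Qb⁆
      rw [hker u hu]; exact Subgroup.one_mem _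
    have hcle : ⁅Qb, Qb⁆ ≤ Qb := Subgroup.commutator_le_right Qb Qb
    by_cases hcase : (⁅Qb, Qb⁆ : Subgroup (G ⧸ U)).comap (QuotientGroup.mk' U) ⊔ (P : Subgroup G) = ⊤
    · exfalso
      have hn1 : ((⁅Qb, Qb⁆ : Subgroup (G ⧸ U)).comap (QuotientGroup.mk' U)).Normal := hcn.comap _
      have hle : Qb.comap (QuotientGroup.mk' U)
          ≤ (⁅Qb, Qb⁆ : Subgroup (G ⧸ U)).comap (QuotientGroup.mk' U) := by
        intro x hx
        have hx' : x ∈ (⁅Qb, Qb⁆ : Subgroup (G ⧸ U)).comap (QuotientGroup.mk' U) ⊔ (P : Subgroup G) :=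
          hcase ▸ mem_top x
        obtain ⟨y, hy, s, hs, rfl⟩ := Subgroup.mem_sup_of_normal_left.mp hx'
        have hyQ : y ∈ Qb.comap (QuotientGroup.mk' U) := (Subgroup.comap_mono hcle) hy
        have hsQ : s ∈ Qb.comap (QuotientGroup.mk' U) := by
          have h1 := (Qb.comap (QuotientGroup.mk' U)).mul_mem
            ((Qb.comap (QuotientGroup.mk' U)).inv_mem hyQ) hx
          rwa [inv_mul_cancel_left] at h1
        have hsU : s ∈ U := by
          obtain ⟨k, hk⟩ := P.2 ⟨s, hs⟩
          have hk' : s ^ p ^ k = 1 := by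
            have := congrArg Subtype.val hk
            simpa using this
          exact hpel s ⟨k, hk'⟩ (hQbL hsQ)
        exact Subgroup.mul_mem _ hy (hUQ1 hsU)
      have hle2 : Qb ≤ ⁅Qb, Qb⁆ := by
        have h1 := Subgroup.map_mono (f := QuotientGroup.mk' U) hle
        rwa [hmapQ, Subgroup.map_comap_eq_self_of_surjective hsurj] at h1
      have hnil : Group.IsNilpotent Qb := hQbq.isNilpotent
      have hnt : Nontrivial Qb := (Subgroup.nontrivial_iff_ne_bot Qb).mpr hQbne
      have hlt := Group.IsSolvable.commutator_lt_top_of_nontrivial Qb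
      apply hlt.ne
      rw [eq_top_iff]
      intro x _
      have hx : (x : G ⧸ U) ∈ ⁅Qb, Qb⁆ := hle2 x.2
      rw [← Subgroup.map_subtype_commutator] at hx
      obtain ⟨x', hx', hxx⟩ := hx
      have hxe : x' = x := Subtype.ext hxx
      rw [← hxe]; exact hx'
    · have hle := star _ hUQ1 hcase
        (by rw [Subgroup.map_comap_eq_self_of_surjective hsurj]; exact hcle.trans hQbL)
      rw [Subgroup.commutator_le]
      intro x hx y hy
      apply hle
      show (QuotientGroup.mk' U) ⁅x, y⁆ ∈ ⁅Qb, Qb⁆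
      rw [map_commutatorElement]
      exact Subgroup.commutator_mem_commutator hx hy
  · have h1 : U.relIndex (Qb.comap (QuotientGroup.mk' U)) = Nat.card Qb := by
      have h2 := Subgroup.relIndex_ker (K := Qb.comap (QuotientGroup.mk' U)) (QuotientGroup.mk' U)
      rw [QuotientGroup.ker_mk', hmapQ] at h2
      exact h2
    rw [h1]
    exact Nat.Coprime.coprime_dvd_left (Subgroup.card_dvd_of_le hQbL) hLb.2.1
  · intro x hxP hx
    have hcn : (centralizer (Qb : Set (G ⧸ U))).Normal := inferInstance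
    have hUR : U ≤ (P : Subgroup G) ⊓ (centralizer (Qb : Set (G ⧸ U))).comap (QuotientGroup.mk' U) := by
      refine le_inf h.le_sylow (fun u hu => ?_)
      show (QuotientGroup.mk' U) u ∈ centralizer (Qb : Set (G ⧸ U))
      rw [hker u hu]; exact Subgroup.one_mem _
    have hRn : ((P : Subgroup G) ⊓
        (centralizer (Qb : Set (G ⧸ U))).comap (QuotientGroup.mk' U)).Normal := by
      constructor
      intro r hr g
      have hg : g ∈ Qb.comap (QuotientGroup.mk' U) ⊔ (P : Subgroup G) := hsup ▸ mem_top g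
      obtain ⟨y, hy, s, hs, rfl⟩ := Subgroup.mem_sup_of_normal_left.mp hg
      obtain ⟨hr1, hr2⟩ := Subgroup.mem_inf.mp hr
      have hr' : s * r * s⁻¹ ∈ (P : Subgroup G) ⊓
          (centralizer (Qb : Set (G ⧸ U))).comap (QuotientGroup.mk' U) := by
        refine Subgroup.mem_inf.mpr
          ⟨Subgroup.mul_mem _ (Subgroup.mul_mem _ hs hr1) (Subgroup.inv_mem _ hs), ?_⟩
        exact (hcn.comap (QuotientGroup.mk' U)).conj_mem r hr2 s
      obtain ⟨hr'1, hr'2⟩ := Subgroup.mem_inf.mp hr'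
      have hcomm : y * (s * r * s⁻¹) * y⁻¹ * (s * r * s⁻¹)⁻¹ ∈ U := by
        rw [← QuotientGroup.eq_one_iff]
        have h1 : (QuotientGroup.mk' U) y * (QuotientGroup.mk' U) (s * r * s⁻¹)
            = (QuotientGroup.mk' U) (s * r * s⁻¹) * (QuotientGroup.mk' U) y :=
          (mem_centralizer_iff.mp hr'2) _ hy
        show (QuotientGroup.mk' U) (y * (s * r * s⁻¹) * y⁻¹ * (s * r * s⁻¹)⁻¹) = 1
        rw [map_mul, map_mul, map_mul (QuotientGroup.mk' U) y, map_inv, map_inv, h1]; group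
      have e : y * s * r * (y * s)⁻¹
          = (y * (s * r * s⁻¹) * y⁻¹ * (s * r * s⁻¹)⁻¹) * (s * r * s⁻¹) := by group
      rw [e]
      exact Subgroup.mul_mem _ (hUR hcomm) hr'
    have hRU := h.N1 _ hRn (P.2.to_le inf_le_left)
    apply hRU
    refine Subgroup.mem_inf.mpr ⟨hxP, ?_⟩
    show (QuotientGroup.mk' U) x ∈ centralizer (Qb : Set (G ⧸ U))
    rw [mem_centralizer_iff]
    intro yb hyb
    obtain ⟨y, rfl⟩ := hsurj yb
    have h1 := hx y hyb
    have h2 : (QuotientGroup.mk' U) (x * y * x⁻¹ * y⁻¹) = 1 := (QuotientGroup.eq_one_iff _).mpr h1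
    rw [map_mul, map_mul, map_mul, map_inv, map_inv] at h2
    have h3 := congrArg (· * (QuotientGroup.mk' U) y * (QuotientGroup.mk' U) x) h2
    simp only [inv_mul_cancel_right, one_mul] at h3
    exact h3.symm

end Structure

section Omega

variable {p : ℕ}

/-- `Ω₁` of a commutative subgroup. -/
def omegaAb (p : ℕ) {G : Type*} [Group G] (Z : Subgroup G)
    (hZ : ∀ a ∈ Z, ∀ b ∈ Z, a * b = b * a) : Subgroup G where
  carrier := {v | v ∈ Z ∧ v ^ p = 1}
  one_mem' := ⟨Z.one_mem, one_pow p⟩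
  mul_mem' := by
    rintro a b ⟨ha, ha'⟩ ⟨hb, hb'⟩
    refine ⟨Z.mul_mem ha hb, ?_⟩
    have hc : Commute a b := hZ a ha b hb
    rw [hc.mul_pow, ha', hb', one_mul]
  inv_mem' := by
    rintro a ⟨ha, ha'⟩
    exact ⟨Z.inv_mem ha, by rw [inv_pow, ha', inv_one]⟩

theorem mem_omegaAb {G : Type*} [Group G] {Z : Subgroup G}
    {hZ : ∀ a ∈ Z, ∀ b ∈ Z, a * b = b * a} {v : G} :
    v ∈ omegaAb p Z hZ ↔ v ∈ Z ∧ v ^ p = 1 := Iff.rfl

theorem omegaAb_le {G : Type*} [Group G] (Z : Subgroup G)
    (hZ : ∀ a ∈ Z, ∀ b ∈ Z, a * b = b * a) : omegaAb p Z hZ ≤ Z := fun _ hv => hv.1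

theorem omegaAb_normal {G : Type*} [Group G] (Z : Subgroup G) [hZn : Z.Normal]
    (hZ : ∀ a ∈ Z, ∀ b ∈ Z, a * b = b * a) : (omegaAb p Z hZ).Normal := by
  constructor
  rintro v ⟨hv, hv'⟩ g
  refine ⟨hZn.conj_mem v hv g, ?_⟩
  rw [conj_pow, hv', mul_one, mul_inv_cancel]

/-- A `p'`-element normalizing an abelian `p`-subgroup `Z` and centralizing `Ω₁(Z)` centralizes `Z`. -/
theorem conj_eq_of_conj_eq_omega {G : Type*} [Group G] {Z : Subgroup G} (hZp : IsPGroup p Z)
    (hZ : ∀ a ∈ Z, ∀ b ∈ Z, a * b = b * a) {x : G} (hxN : ∀ z ∈ Z, x * z * x⁻¹ ∈ Z)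
    (hx : (orderOf x).Coprime p) (hfix : ∀ v ∈ Z, v ^ p = 1 → x * v * x⁻¹ = v) :
    ∀ z ∈ Z, x * z * x⁻¹ = z := by
  have key : ∀ k : ℕ, ∀ z ∈ Z, z ^ p ^ k = 1 → x * z * x⁻¹ = z := by
    intro k
    induction k with
    | zero =>
      intro z _ hz
      rw [pow_zero, pow_one] at hz
      rw [hz]; group
    | succ k ih =>
      intro z hz hzk
      have hy : x * z ^ p * x⁻¹ = z ^ p :=
        ih (z ^ p) (Z.pow_mem hz p) (by rw [← pow_mul, ← pow_succ']; exact hzk)
      have hwZ : z⁻¹ * (x * z * x⁻¹) ∈ Z := Z.mul_mem (Z.inv_mem hz) (hxN z hz)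
      have hwp : (z⁻¹ * (x * z * x⁻¹)) ^ p = 1 := by
        have hc : Commute z⁻¹ (x * z * x⁻¹) := hZ _ (Z.inv_mem hz) _ (hxN z hz)
        rw [hc.mul_pow, conj_pow, hy, inv_pow, inv_mul_cancel]
      have hw := hfix _ hwZ hwp
      have e1 : x * z * x⁻¹ = z * (z⁻¹ * (x * z * x⁻¹)) := by group
      have hw' : x * (z⁻¹ * (x * z * x⁻¹)) = (z⁻¹ * (x * z * x⁻¹)) * x := by
        calc x * (z⁻¹ * (x * z * x⁻¹)) = (x * (z⁻¹ * (x * z * x⁻¹)) * x⁻¹) * x := by group
          _ = (z⁻¹ * (x * z * x⁻¹)) * x := by rw [hw]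
      have h1 := eq_one_of_conj_eq_mul e1 hw' hwp hx
      rw [e1, h1, mul_one]
  intro z hz
  obtain ⟨k, hk⟩ := hZp ⟨z, hz⟩
  have hk' : z ^ p ^ k = 1 := by
    have := congrArg Subtype.val hk
    simpa using this
  exact key k z hz hk'

end Omega

section Reduction

variable {p : ℕ} {Jt : ∀ (S : Type u) [Group S], Subgroup S}

/-- Step 9: a normal elementary abelian subgroup `V ≤ U` with `C_G(V) = U`. -/
theorem MinCex.exists_V {G : Type u} [Group G] [Finite G] [Fact p.Prime] {P : Sylow p G}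
    {U : Subgroup G} [hUn : U.Normal] (h : MinCex p Jt P U) :
    ∃ V : Subgroup G, V.Normal ∧ V ≤ U ∧ (∀ a ∈ V, ∀ b ∈ V, a * b = b * a) ∧
      (∀ v ∈ V, v ^ p = 1) ∧ centralizer (V : Set G) = U := by
  have hp : p.Prime := Fact.out
  have hcU := h.centralizer_le
  have hZc : ∀ a ∈ U ⊓ centralizer (U : Set G), ∀ b ∈ U ⊓ centralizer (U : Set G),
      a * b = b * a := by
    intro a ha b hb
    exact (mem_centralizer_iff.mp (Subgroup.mem_inf.mp hb).2) a (Subgroup.mem_inf.mp ha).1
  have hZn : (U ⊓ centralizer (U : Set G)).Normal := inferInstance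
  have hZp : IsPGroup p (U ⊓ centralizer (U : Set G) : Subgroup G) := h.Up.to_le inf_le_left
  have hZP : (P : Subgroup G) ⊓ centralizer ((P : Subgroup G) : Set G)
      ≤ U ⊓ centralizer (U : Set G) := by
    intro z hz
    have h1 : z ∈ centralizer (U : Set G) :=
      Subgroup.centralizer_le (SetLike.coe_subset_coe.mpr h.le_sylow) (Subgroup.mem_inf.mp hz).2
    exact Subgroup.mem_inf.mpr ⟨hcU h1, h1⟩
  have hCZ : centralizer ((U ⊓ centralizer (U : Set G) : Subgroup G) : Set G) ≤ U := by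
    have : (centralizer ((U ⊓ centralizer (U : Set G) : Subgroup G) : Set G)).Normal :=
      inferInstance
    exact h.le_of_normal_ifc _
      (h.hyp.2.mono (Subgroup.centralizer_le (SetLike.coe_subset_coe.mpr hZP)))
  have hVn : (omegaAb p (U ⊓ centralizer (U : Set G)) hZc).Normal := omegaAb_normal _ hZc
  refine ⟨omegaAb p (U ⊓ centralizer (U : Set G)) hZc, hVn,
    (omegaAb_le _ hZc).trans inf_le_left, ?_, ?_, ?_⟩
  · intro a ha b hb; exact hZc a ha.1 b hb.1
  · intro v hv; exact hv.2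
  · apply le_antisymm
    · have hcn : (centralizer ((omegaAb p (U ⊓ centralizer (U : Set G)) hZc : Subgroup G)
          : Set G)).Normal := inferInstance
      apply h.N1 _ hcn
      apply isPGroup_subgroup_of_forall_coprime_eq_one
      intro x hx hxp
      have h1 : ∀ z ∈ U ⊓ centralizer (U : Set G), x * z * x⁻¹ = z := by
        apply conj_eq_of_conj_eq_omega hZp hZc (fun z hz => hZn.conj_mem z hz x) hxp
        intro v hv hvp
        have h2 := (mem_centralizer_iff.mp hx) v ⟨hv, hvp⟩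
        rw [← h2]; group
      have h2 : x ∈ centralizer ((U ⊓ centralizer (U : Set G) : Subgroup G) : Set G) := by
        rw [mem_centralizer_iff]
        intro z hz
        have h3 := h1 z hz
        calc z * x = (x * z * x⁻¹) * x := by rw [h3]
          _ = x * z := by group
      exact eq_one_of_mem_pgroup_of_coprime h.Up (hCZ h2) hxp
    · intro u hu
      rw [mem_centralizer_iff]
      intro v hv
      exact ((mem_centralizer_iff.mp (Subgroup.mem_inf.mp hv.1).2) u hu).symm

/-- The final configuration of a minimal counterexample to Thompson's theorem. -/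
structure Endgame (p : ℕ) {G : Type*} [Group G] (P U Q V A : Subgroup G) : Prop where
  P_pgroup : IsPGroup p P
  U_normal : U.Normal
  U_pgroup : IsPGroup p U
  U_le_P : U ≤ P
  V_normal : V.Normal
  V_le : V ≤ U
  V_elem : Cfsg.IsElementaryAbelian p V
  cent_V : centralizer (V : Set G) = U
  Q_normal : Q.Normal
  U_le_Q : U ≤ Q
  Q_comm : ⁅Q, Q⁆ ≤ U
  Q_index : (U.relIndex Q).Coprime p
  sup_top : Q ⊔ P = ⊤
  faithful : ∀ x ∈ P, (∀ y ∈ Q, x * y * x⁻¹ * y⁻¹ ∈ U) → x ∈ U
  A_le : A ≤ P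
  A_comm : IsMulCommutative A
  A_not_le : ¬ A ≤ U
  V_norm_A : V ≤ normalizer (A : Set G)
  offender : Nat.card V * Nat.card ↥(A ⊓ U) ≤ Nat.card A * Nat.card ↥(V ⊓ A)

/-- Step 10: the minimal counterexample has the `Endgame` structure. -/
theorem MinCex.exists_endgame {G : Type u} [Group G] [Finite G] [Fact p.Prime] {P : Sylow p G}
    {U : Subgroup G} (h : MinCex p Jt P U) :
    ∃ Q V A : Subgroup G, Endgame p (P : Subgroup G) U Q V A := by
  have hUn := h.Un
  obtain ⟨Q, hQn, hUQ, hQQ, hQi, hsup, hfaith⟩ := h.exists_Q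
  obtain ⟨V, hVn, hVU, hVc, hVp, hCV⟩ := h.exists_V
  have hVe : Cfsg.IsElementaryAbelian p V :=
    ⟨⟨⟨fun a b => Subtype.ext (hVc a a.2 b b.2)⟩⟩, hVp⟩
  have hJ : ¬ JOf Jt (P : Subgroup G) ≤ centralizer (V : Set G) := by
    rw [hCV]
    intro hle
    have h1 := JOf_eq_of_le h.hJ P.2 h.le_sylow hle
    have h2 : normalizer (JOf Jt (P : Subgroup G) : Set G) = ⊤ := by
      rw [← h1, eq_top_iff, ← Subgroup.normalizer_eq_top_iff.mpr hUn]
      exact normalizer_le_normalizer_JOf h.hJ U
    have h3 := h.hyp.1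
    rw [h2] at h3
    exact h.hnot (ifc_top_iff.mp h3)
  obtain ⟨A, hAP, hAc, hAn, hVA, hcard⟩ := JOf_repl h.hJ (P : Subgroup G) V P.2
    (hVU.trans h.le_sylow) (by rw [Subgroup.normalizer_eq_top_iff.mpr hVn]; exact le_top) hVe hJ
  refine ⟨Q, V, A, ⟨P.2, hUn, h.Up, h.le_sylow, hVn, hVU, hVe, hCV, hQn, hUQ, hQQ, hQi, hsup,
    hfaith, hAP, hAc, ?_, hVA, ?_⟩⟩
  · rwa [hCV] at hAn
  · rwa [hCV] at hcard

/-- For odd `p`, the endgame configuration is impossible (quadratic action). -/
theorem Endgame.false_of_odd {G : Type*} [Group G] [Finite G] [Fact p.Prime] (hp2 : p ≠ 2)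
    {P U Q V A : Subgroup G} (h : Endgame p P U Q V A) : False := by
  have hVn := h.V_normal
  have hQn := h.Q_normal
  obtain ⟨a, haA, haU⟩ := SetLike.not_le_iff_exists.mp h.A_not_le
  apply haU
  apply h.faithful a (h.A_le haA)
  apply quadratic_commutator_mem hp2 V U Q h.V_elem h.cent_V h.Q_comm h.Q_index a
    (by rw [Subgroup.normalizer_eq_top_iff.mpr hQn]; exact mem_top a)
  intro v hv
  have h1 : v * a⁻¹ * v⁻¹ ∈ A :=
    (mem_normalizer_iff.mp (h.V_norm_A hv) a⁻¹).mp (A.inv_mem haA)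
  have h2 : a * v * a⁻¹ * v⁻¹ ∈ A := by
    have e : a * v * a⁻¹ * v⁻¹ = a * (v * a⁻¹ * v⁻¹) := by group
    rw [e]; exact A.mul_mem haA h1
  have hc := h.A_comm
  exact congrArg Subtype.val (hc.is_comm.comm (⟨_, h2⟩ : A) ⟨a, haA⟩)

/-- Thompson's theorem for a Thompson-like functor, relative to a class `C` of groups closed under
subgroups and quotients in which the endgame configuration cannot occur. -/
theorem thompson_general (hJ : ThompsonLike p Jt) [Fact p.Prime]
    (C : ∀ (G : Type u) [Group G], Prop)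
    (hCsub : ∀ (G : Type u) [Group G] (M : Subgroup G), C G → C ↥M)
    (hCquot : ∀ (G : Type u) [Group G] (N : Subgroup G) [N.Normal], C G → C (G ⧸ N))
    (hend : ∀ (G : Type u) [Group G] [Finite G], C G →
      ∀ P U Q V A : Subgroup G, Endgame p P U Q V A → False) :
    ∀ (n : ℕ) (G : Type u) [Group G] [Finite G], Nat.card G = n → C G → ∀ P : Sylow p G,
      ThHyp p Jt (P : Subgroup G) → Cfsg.HasNormalPComplement p G := by
  intro n
  induction n using Nat.strong_induction_on with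
  | _ n ih =>
    intro G _ _ hn hC P hyp
    by_contra hnot
    have ihsub : ∀ M : Subgroup G, M ≠ ⊤ → ∀ S : Sylow p ↥M,
        ThHyp p Jt (S : Subgroup ↥M) → IFC p M := by
      intro M hM S hS
      rw [ifc_iff_hnpc]
      have hlt : Nat.card M < n := by
        rw [← hn, ← Subgroup.card_top (G := G)]
        exact card_lt_card_of_lt (lt_top_iff_ne_top.mpr hM)
      exact ih _ hlt ↥M rfl (hCsub G M hC) S hS
    have ihquot : ∀ (N : Subgroup G) [N.Normal], N ≠ ⊥ → ∀ S : Sylow p (G ⧸ N),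
        ThHyp p Jt (S : Subgroup (G ⧸ N)) → Cfsg.HasNormalPComplement p (G ⧸ N) := by
      intro N _ hN S hS
      have hlt : Nat.card (G ⧸ N) < n := by
        rw [← hn, Subgroup.card_eq_card_quotient_mul_card_subgroup N]
        have h1 : 1 < Nat.card N := by
          by_contra hle
          have h2 : Nat.card N = 1 := by
            have := Nat.card_pos (α := N)
            omega
          exact hN (Subgroup.eq_bot_of_card_eq N h2)
        have h3 : 0 < Nat.card (G ⧸ N) := Nat.card_pos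
        nlinarith
      exact ih _ hlt (G ⧸ N) rfl (hCquot G N hC) S hS
    obtain ⟨U, hU⟩ := exists_minCex hJ P hyp ihsub ihquot hnot
    obtain ⟨Q, V, A, hE⟩ := hU.exists_endgame
    exact hend G hC _ _ _ _ _ hE

/-- **Thompson's normal `p`-complement theorem** for odd `p` and a Thompson-like functor. -/
theorem thompson_odd (hJ : ThompsonLike p Jt) [Fact p.Prime] (hp2 : p ≠ 2) {G : Type u} [Group G]
    [Finite G] (P : Sylow p G) (hyp : ThHyp p Jt (P : Subgroup G)) :
    Cfsg.HasNormalPComplement p G :=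
  thompson_general hJ (fun _ _ => True) (fun _ _ _ _ => trivial) (fun _ _ _ _ _ => trivial)
    (fun _ _ _ _ _ _ _ _ _ hE => hE.false_of_odd hp2) (Nat.card G) G rfl trivial P hyp

end Reduction

end Cfsg.Agent.Lib.Helper34
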