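import Mathlib
import Cfsg.Agent.Lib.Helper34.ThompsonPC
import Cfsg.Agent.Lib.Helper34.JInstances
import Cfsg.Agent.Lib.Helper34.CoreAux
import Cfsg.Agent.Lib.Helper91.ThompsonFpf2

/-!
# Kegel's theorem on splitting automorphisms of prime order (Hughes–Thompson form)

If `a` normalizes the subgroup `H` of a finite group `Γ` and every element of the coset `H a` has
order dividing the prime `p` (`KegelPair p H a`), then `H` is nilpotent (`kegel_nilpotent`).

The proof follows Thompson's proof for fixed-point-free automorphisms: a norm argument for the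
solvable configurations and Thompson's normal `p`-complement theorem for the simple case.
-/

set_option autoImplicit false
set_option linter.style.haveILetI false

namespace Cfsg.Agent.Lib.Helper34

open Subgroup
open Cfsg.Agent.Lib.Helper54

universe u

/-- Abstract norm lemma. -/
theorem norm_lemma_abstract {Γ W : Type*} [Group Γ] [CommGroup W] (ρ : Γ →* MulAut W)
    (Q : Subgroup Γ) [Finite Q] (a : Γ) (p : ℕ) (hp : p.Prime)
    (hna : ∀ y ∈ Q, a * y * a⁻¹ ∈ Q)
    (hpow : ∀ y ∈ Q, (y * a) ^ p = 1)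
    (hnorm : ∀ y ∈ Q, ∀ w : W, ∏ i ∈ Finset.range p, ρ ((y * a) ^ i) w = 1)
    (htf : ∀ w : W, w ^ Nat.card Q = 1 → w = 1) :
    ∀ z ∈ Q, ∀ w : W, ρ z w = w := by
  classical
  letI : Fintype Q := Fintype.ofFinite Q
  -- a^i normalizes Q
  have hna_pow : ∀ (i : ℕ), ∀ y ∈ Q, a ^ i * y * (a ^ i)⁻¹ ∈ Q := by
    intro i
    induction i with
    | zero => intro y hy; simpa using hy
    | succ i ih =>
      intro y hy
      have h1 := hna _ (ih y hy)
      have e : a ^ (i + 1) * y * (a ^ (i + 1))⁻¹ = a * (a ^ i * y * (a ^ i)⁻¹) * a⁻¹ := by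
        rw [pow_succ']; group
      rw [e]; exact h1
  -- c_i(y) ∈ Q
  have hc_mem : ∀ (i : ℕ), ∀ y ∈ Q, (y * a) ^ i * (a ^ i)⁻¹ ∈ Q := by
    intro i
    induction i with
    | zero => intro y hy; simp
    | succ i ih =>
      intro y hy
      have h1 := Q.mul_mem (ih y hy) (hna_pow i y hy)
      have e : (y * a) ^ (i + 1) * (a ^ (i + 1))⁻¹
          = (y * a) ^ i * (a ^ i)⁻¹ * (a ^ i * y * (a ^ i)⁻¹) := by
        rw [pow_succ, pow_succ]; group
      rw [e]; exact h1
  -- the trace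
  let T : W → W := fun u => ∏ z : Q, ρ (z : Γ) u
  have hT_mul : ∀ u u' : W, T (u * u') = T u * T u' := by
    intro u u'
    simp only [T, map_mul]
    exact Finset.prod_mul_distrib
  have hT_inv : ∀ u : W, T u⁻¹ = (T u)⁻¹ := by
    intro u
    simp only [T, map_inv]
    exact Finset.prod_inv_distrib (s := Finset.univ) (f := fun z : Q => ρ (z : Γ) u)
  have hT_inv' : ∀ z ∈ Q, ∀ u : W, T (ρ z u) = T u := by
    intro z hz u
    simp only [T]
    have h1 : ∀ z' : Q, ρ (z' : Γ) (ρ z u) = ρ ((z' * ⟨z, hz⟩ : Q) : Γ) u := by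
      intro z'
      rw [Subgroup.coe_mul, map_mul]; rfl
    simp only [h1]
    exact Equiv.prod_comp (Equiv.mulRight (⟨z, hz⟩ : Q)) (fun z'' : Q => ρ (z'' : Γ) u)
  -- sum over y of the i-th term
  have hterm : ∀ i : ℕ, 0 < i → i < p → ∀ w : W,
      ∏ y : Q, ρ (((y : Γ) * a) ^ i) w = T (ρ (a ^ i) w) := by
    intro i hi0 hip w
    let f : Q → Q := fun y => ⟨((y : Γ) * a) ^ i * (a ^ i)⁻¹, hc_mem i y y.2⟩
    have hf_inj : Function.Injective f := by
      intro y y' hyy
      have h1 : ((y : Γ) * a) ^ i = ((y' : Γ) * a) ^ i := by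
        have h2 := congrArg Subtype.val hyy
        simp only [f] at h2
        exact mul_right_cancel h2
      have hcop : Nat.Coprime i p := (Nat.coprime_of_lt_prime hi0.ne' hip hp).symm
      obtain ⟨m, -, hm⟩ := Nat.exists_mul_mod_eq_one_of_coprime hcop hp.one_lt
      have h3 : ∀ x : Γ, x ^ p = 1 → x = (x ^ i) ^ m := by
        intro x hx
        rw [← pow_mul, pow_eq_pow_mod (i * m) hx, hm, pow_one]
      have h4 : (y : Γ) * a = (y' : Γ) * a := by
        rw [h3 _ (hpow y y.2), h1, ← h3 _ (hpow y' y'.2)]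
      exact Subtype.ext (mul_right_cancel h4)
    have hf_bij : Function.Bijective f := Finite.injective_iff_bijective.mp hf_inj
    have h1 : ∀ y : Q, ρ (((y : Γ) * a) ^ i) w = ρ ((f y : Q) : Γ) (ρ (a ^ i) w) := by
      intro y
      have e : ((y : Γ) * a) ^ i = ((f y : Q) : Γ) * a ^ i := by
        simp only [f]; group
      rw [e, map_mul]; rfl
    simp only [h1, T]
    exact Equiv.prod_comp (Equiv.ofBijective f hf_bij) (fun z : Q => ρ (z : Γ) (ρ (a ^ i) w))
  -- the main identity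
  have hmain : ∀ w : W, w ^ Nat.card Q * ∏ i ∈ Finset.range (p - 1), T (ρ (a ^ (i + 1)) w) = 1 := by
    intro w
    have h1 : ∏ y : Q, ∏ i ∈ Finset.range p, ρ (((y : Γ) * a) ^ i) w = 1 := by
      apply Finset.prod_eq_one
      intro y _
      exact hnorm y y.2 w
    rw [Finset.prod_comm] at h1
    have hp1 : p = (p - 1) + 1 := by have := hp.pos; omega
    rw [hp1, Finset.prod_range_succ'] at h1
    rw [mul_comm]
    rw [← h1]
    congr 1
    · apply Finset.prod_congr rfl
      intro i hi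
      have hi' := Finset.mem_range.mp hi
      exact (hterm (i + 1) (Nat.succ_pos i) (by omega) w).symm
    · simp [Finset.prod_const, Nat.card_eq_fintype_card]
  intro z hz u
  have h1 := hmain (ρ z u * u⁻¹)
  have h2 : ∏ i ∈ Finset.range (p - 1), T (ρ (a ^ (i + 1)) (ρ z u * u⁻¹)) = 1 := by
    apply Finset.prod_eq_one
    intro i _
    rw [map_mul, hT_mul, map_inv, hT_inv]
    have e : ρ (a ^ (i + 1)) (ρ z u) = ρ (a ^ (i + 1) * z * (a ^ (i + 1))⁻¹) (ρ (a ^ (i + 1)) u) := by
      rw [← MulAut.mul_apply, ← map_mul, ← MulAut.mul_apply, ← map_mul]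
      congr 2; group
    rw [e, hT_inv' _ (hna_pow (i + 1) z hz), mul_inv_cancel]
  rw [h2, mul_one] at h1
  have h3 := htf _ h1
  exact mul_inv_eq_one.mp h3

theorem kegel_norm_lemma {Γ : Type*} [Group Γ] [Finite Γ] (p : ℕ) (hp : p.Prime)
    (V : Subgroup Γ) [V.Normal] (hVc : ∀ x ∈ V, ∀ y ∈ V, x * y = y * x)
    (Q : Subgroup Γ) (a : Γ) (ha : a ∈ normalizer (Q : Set Γ))
    (hcop : (Nat.card V).Coprime (Nat.card Q))
    (h : ∀ y ∈ Q, ∀ v ∈ V, (v * y * a) ^ p = 1) :
    ∀ z ∈ Q, ∀ v ∈ V, z * v * z⁻¹ = v := by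
  classical
  letI : CommGroup ↥V := { (inferInstance : Group ↥V) with
    mul_comm := fun x y => Subtype.ext (hVc x x.2 y y.2) }
  let ρ : Γ →* MulAut ↥V := MulAut.conjNormal
  have hρ : ∀ (g : Γ) (v : ↥V), ((ρ g v : ↥V) : Γ) = g * v * g⁻¹ := fun g v => rfl
  have key : ∀ (b : Γ) (v : ↥V) (n : ℕ),
      ((v : Γ) * b) ^ n = ((∏ i ∈ Finset.range n, ρ (b ^ i) v : ↥V) : Γ) * b ^ n := by
    intro b v n
    induction n with
    | zero => simp
    | succ n ih =>
      rw [pow_succ, ih, Finset.prod_range_succ, Subgroup.coe_mul, pow_succ, hρ]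
      group
  have hpow : ∀ y ∈ Q, (y * a) ^ p = 1 := by
    intro y hy
    have h1 := h y hy 1 V.one_mem
    rwa [one_mul] at h1
  have hres := norm_lemma_abstract ρ Q a p hp
    (fun y hy => (mem_normalizer_iff.mp ha y).mp hy) hpow
    (by
      intro y hy w
      have h1 := key (y * a) w p
      rw [hpow y hy, mul_one, ← mul_assoc, h y hy w w.2] at h1
      exact Subtype.ext h1.symm)
    (by
      intro w hw
      have h1 : orderOf w ∣ Nat.card Q := orderOf_dvd_of_pow_eq_one hw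
      have h2 : orderOf w ∣ Nat.card V := orderOf_dvd_natCard w
      have h3 : orderOf w = 1 := Nat.eq_one_of_dvd_coprimes hcop h2 h1
      exact orderOf_eq_one_iff.mp h3)
  intro z hz v hv
  have h1 := hres z hz ⟨v, hv⟩
  have h2 := congrArg Subtype.val h1
  rw [hρ] at h2
  exact h2

/-- `(H, a)` is a Kegel pair for `p` if `a` normalizes `H` and every element of the coset `H a`
has order dividing `p`. -/
def KegelPair (p : ℕ) {Γ : Type*} [Group Γ] (H : Subgroup Γ) (a : Γ) : Prop :=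
  a ∈ normalizer (H : Set Γ) ∧ ∀ h ∈ H, (h * a) ^ p = 1

theorem KegelPair.mul_left {p : ℕ} {Γ : Type*} [Group Γ] {H : Subgroup Γ} {a : Γ}
    (hk : KegelPair p H a) {h₀ : Γ} (h₀H : h₀ ∈ H) : KegelPair p H (h₀ * a) := by
  refine ⟨(normalizer (H : Set Γ)).mul_mem (le_normalizer h₀H) hk.1, ?_⟩
  intro h hh
  rw [← mul_assoc]
  exact hk.2 _ (H.mul_mem hh h₀H)

theorem KegelPair.sub {p : ℕ} {Γ : Type*} [Group Γ] {H : Subgroup Γ} {a : Γ}
    (hk : KegelPair p H a) {H₁ : Subgroup Γ} (hle : H₁ ≤ H) (ha : a ∈ normalizer (H₁ : Set Γ)) :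
    KegelPair p H₁ a :=
  ⟨ha, fun h hh => hk.2 h (hle hh)⟩

theorem mem_normalizer_inf {Γ : Type*} [Group Γ] {A B : Subgroup Γ} {g : Γ}
    (hA : g ∈ normalizer (A : Set Γ)) (hB : g ∈ normalizer (B : Set Γ)) :
    g ∈ normalizer ((A ⊓ B : Subgroup Γ) : Set Γ) := by
  rw [mem_normalizer_iff] at hA hB ⊢
  intro x
  rw [Subgroup.mem_inf, Subgroup.mem_inf, hA x, hB x]

theorem mem_normalizer_centralizer {Γ : Type*} [Group Γ] {X : Subgroup Γ} {g : Γ}
    (hg : g ∈ normalizer (X : Set Γ)) :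
    g ∈ normalizer ((centralizer (X : Set Γ) : Subgroup Γ) : Set Γ) := by
  have key : ∀ g : Γ, g ∈ normalizer (X : Set Γ) → ∀ c ∈ centralizer (X : Set Γ),
      g * c * g⁻¹ ∈ centralizer (X : Set Γ) := by
    intro g hg c hc
    rw [mem_centralizer_iff] at hc ⊢
    intro x hx
    have hx' : g⁻¹ * x * g ∈ X := by
      have h1 := (mem_normalizer_iff.mp (inv_mem hg) x).mp hx
      rwa [inv_inv] at h1
    have h2 := hc _ hx'
    calc x * (g * c * g⁻¹) = g * ((g⁻¹ * x * g) * c) * g⁻¹ := by group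
      _ = g * (c * (g⁻¹ * x * g)) * g⁻¹ := by rw [h2]
      _ = g * c * g⁻¹ * x := by group
  rw [mem_normalizer_iff]
  intro c
  constructor
  · exact key g hg c
  · intro h
    have h1 := key g⁻¹ (inv_mem hg) _ h
    have e : g⁻¹ * (g * c * g⁻¹) * g⁻¹⁻¹ = c := by group
    rwa [e] at h1

/-- Frattini-type adjustment: some element of the coset `H a` normalizes a given Sylow subgroup
of the normal subgroup `H`. -/
theorem exists_mul_mem_normalizer_sylow {Γ : Type*} [Group Γ] [Finite Γ] (H : Subgroup Γ)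
    [H.Normal] {q : ℕ} [Fact q.Prime] (Q' : Sylow q ↥H) (a : Γ) :
    ∃ h ∈ H, h * a ∈ normalizer ((((Q' : Subgroup ↥H).map H.subtype : Subgroup Γ)) : Set Γ) := by
  have h1 := Sylow.normalizer_sup_eq_top Q'
  have h2 : a ∈ ((H ⊔ normalizer ((((Q' : Subgroup ↥H).map H.subtype : Subgroup Γ)) : Set Γ)
      : Subgroup Γ) : Set Γ) := by
    rw [sup_comm, h1]; trivial
  rw [Subgroup.normal_mul] at h2
  obtain ⟨h, hh, n, hn, rfl⟩ := Set.mem_mul.mp h2
  refine ⟨h⁻¹, H.inv_mem hh, ?_⟩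
  rw [inv_mul_cancel_left]
  exact hn

/-- A `r`-group acting by conjugation on a nontrivial normal `r`-subgroup has a nontrivial fixed
point. -/
theorem exists_conj_fixed_of_pgroup {Γ : Type*} [Group Γ] [Finite Γ] {r : ℕ} [Fact r.Prime]
    (S V : Subgroup Γ) [V.Normal] (hS : IsPGroup r S) (hV : IsPGroup r V) (hVbot : V ≠ ⊥) :
    ∃ z ∈ V, z ≠ 1 ∧ ∀ s ∈ S, s * z * s⁻¹ = z := by
  letI : MulAction ↥S ↥V := MulAction.compHom ↥V ((MulAut.conjNormal (H := V)).comp S.subtype)
  have hsmul : ∀ (s : ↥S) (v : ↥V), ((s • v : ↥V) : Γ) = s * v * (s : Γ)⁻¹ := fun s v => rfl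
  have hdvd : r ∣ Nat.card ↥V := p_dvd_card_of_ne_bot hV hVbot
  have h1 : (1 : ↥V) ∈ MulAction.fixedPoints ↥S ↥V := by
    intro s
    apply Subtype.ext
    rw [hsmul]; simp
  obtain ⟨b, hb, hb1⟩ := hS.exists_fixed_point_of_prime_dvd_card_of_fixed_point ↥V hdvd h1
  refine ⟨b, b.2, ?_, ?_⟩
  · intro h; exact hb1 (Subtype.ext h.symm)
  · intro s hs
    have h2 := hb ⟨s, hs⟩
    have h3 := congrArg Subtype.val h2
    rw [hsmul] at h3
    exact h3

/-- A subgroup containing a Sylow `q`-subgroup for every prime `q` is the whole group. -/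
theorem eq_top_of_forall_sylow_le {G : Type*} [Group G] [Finite G] (D : Subgroup G)
    (h : ∀ q : ℕ, ∀ _ : Fact q.Prime, ∃ Q : Sylow q G, (Q : Subgroup G) ≤ D) : D = ⊤ := by
  rw [← Subgroup.index_eq_one]
  by_contra hne
  obtain ⟨q, hq, hqd⟩ := Nat.exists_prime_and_dvd hne
  haveI : Fact q.Prime := ⟨hq⟩
  obtain ⟨Q, hQ⟩ := h q ⟨hq⟩
  have h1 : D.index ∣ (Q : Subgroup G).index := Subgroup.index_dvd_of_le hQ
  exact Q.not_dvd_index (hqd.trans h1)

/-- With `Γ = H⟨a⟩`, a subgroup normalized by `H` and by an element of `H a` is normal. -/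
theorem normal_of_gen {Γ : Type*} [Group Γ] {H : Subgroup Γ} {a : Γ}
    (hgen : H ⊔ zpowers a = ⊤) (X : Subgroup Γ) (hH : H ≤ normalizer (X : Set Γ))
    {h : Γ} (hh : h ∈ H) (ha : h * a ∈ normalizer (X : Set Γ)) : X.Normal := by
  rw [← Subgroup.normalizer_eq_top_iff]
  apply top_le_iff.mp
  rw [← hgen]
  apply sup_le hH
  rw [zpowers_le]
  have h1 := (normalizer (X : Set Γ)).mul_mem (inv_mem (hH hh)) ha
  rwa [inv_mul_cancel_left] at h1

/-- Step (i): the centre of `H` is trivial in a minimal counterexample. -/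
theorem kegel_center {Γ : Type u} [Group Γ] [Finite Γ] (p : ℕ)
    (H : Subgroup Γ) [H.Normal] (a : Γ) (hk : KegelPair p H a)
    (IH : ∀ (Γ₁ : Type u) [Group Γ₁] [Finite Γ₁] (H₁ : Subgroup Γ₁) (a₁ : Γ₁),
      KegelPair p H₁ a₁ → Nat.card H₁ < Nat.card H → Group.IsNilpotent ↥H₁)
    (hnot : ¬ Group.IsNilpotent ↥H) : H ⊓ centralizer (H : Set Γ) = ⊥ := by
  by_contra hne
  have hZn : (H ⊓ centralizer (H : Set Γ)).Normal := inferInstance
  let π := QuotientGroup.mk' (H ⊓ centralizer (H : Set Γ))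
  have hπ : Function.Surjective π := QuotientGroup.mk'_surjective _
  have hHn : (H.map π).Normal := Subgroup.Normal.map inferInstance π hπ
  have hk' : KegelPair p (H.map π) (π a) := by
    refine ⟨?_, ?_⟩
    · rw [Subgroup.normalizer_eq_top_iff.mpr hHn]; trivial
    · rintro _ ⟨h, hh, rfl⟩
      rw [← map_mul, ← map_pow, hk.2 h hh, map_one]
  let f : ↥H →* ↥(H.map π) := π.subgroupMap H
  have hf : Function.Surjective f := MonoidHom.subgroupMap_surjective π H
  have hcard : Nat.card ↥(H.map π) < Nat.card ↥H := by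
    classical
    letI : Fintype ↥H := Fintype.ofFinite _
    letI : Fintype ↥(H.map π) := Fintype.ofFinite _
    rw [Nat.card_eq_fintype_card, Nat.card_eq_fintype_card]
    apply Fintype.card_lt_of_surjective_not_injective f hf
    intro hinj
    apply hne
    rw [Subgroup.eq_bot_iff_forall]
    intro z hz
    have hzH : z ∈ H := (Subgroup.mem_inf.mp hz).1
    have h1 : f ⟨z, hzH⟩ = f 1 := by
      apply Subtype.ext
      change π z = π 1
      rw [map_one]
      exact (QuotientGroup.eq_one_iff z).mpr hz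
    have h2 := hinj h1
    exact congrArg Subtype.val h2
  have hnil := IH (Γ ⧸ (H ⊓ centralizer (H : Set Γ))) (H.map π) (π a) hk' hcard
  apply hnot
  haveI := hnil
  refine Subgroup.isNilpotent_of_ker_le_center f ?_
  intro x hx
  rw [MonoidHom.mem_ker] at hx
  have h1 : π (x : Γ) = 1 := congrArg Subtype.val hx
  have h2 : (x : Γ) ∈ H ⊓ centralizer (H : Set Γ) := (QuotientGroup.eq_one_iff _).mp h1
  rw [Subgroup.mem_center_iff]
  intro y
  apply Subtype.ext
  exact (mem_centralizer_iff.mp (Subgroup.mem_inf.mp h2).2) y y.2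

/-- Step (ii): `H` is a minimal normal subgroup in a minimal counterexample. -/
theorem kegel_minimal {Γ : Type u} [Group Γ] [Finite Γ] (p : ℕ) (hp : p.Prime)
    (H : Subgroup Γ) [H.Normal] (a : Γ) (hk : KegelPair p H a)
    (IH : ∀ (Γ₁ : Type u) [Group Γ₁] [Finite Γ₁] (H₁ : Subgroup Γ₁) (a₁ : Γ₁),
      KegelPair p H₁ a₁ → Nat.card H₁ < Nat.card H → Group.IsNilpotent ↥H₁)
    (hZ : H ⊓ centralizer (H : Set Γ) = ⊥) :
    ∀ N : Subgroup Γ, N.Normal → N ≤ H → N = ⊥ ∨ N = H := by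
  intro N hNn hNH
  by_contra hcon
  push Not at hcon
  obtain ⟨hNbot, hNH'⟩ := hcon
  have hNlt : N < H := lt_of_le_of_ne hNH hNH'
  have haN : a ∈ normalizer (N : Set Γ) := by
    rw [Subgroup.normalizer_eq_top_iff.mpr hNn]; trivial
  have hNnil : Group.IsNilpotent ↥N := IH Γ N a (hk.sub hNH haN) (card_lt_card_of_lt hNlt)
  -- the centre of `N`
  have hAbot : N ⊓ centralizer (N : Set Γ) ≠ ⊥ := by
    have hnt : Nontrivial ↥N := (Subgroup.nontrivial_iff_ne_bot N).mpr hNbot
    have h1 := Group.IsNilpotent.center_ne_bot ↥N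
    intro hbot
    apply h1
    rw [Subgroup.eq_bot_iff_forall]
    intro z hz
    have h2 : (z : Γ) ∈ N ⊓ centralizer (N : Set Γ) := by
      refine Subgroup.mem_inf.mpr ⟨z.2, ?_⟩
      rw [mem_centralizer_iff]
      intro s hs
      have h3 := (Subgroup.mem_center_iff.mp hz) ⟨s, hs⟩
      exact congrArg Subtype.val h3
    rw [hbot, Subgroup.mem_bot] at h2
    exact Subtype.ext h2
  have hAn : (N ⊓ centralizer (N : Set Γ)).Normal := inferInstance
  have hAc : ∀ x ∈ N ⊓ centralizer (N : Set Γ), ∀ y ∈ N ⊓ centralizer (N : Set Γ),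
      x * y = y * x := by
    intro x hx y hy
    exact (mem_centralizer_iff.mp (Subgroup.mem_inf.mp hy).2 x (Subgroup.mem_inf.mp hx).1)
  have hcardA : Nat.card ↥(N ⊓ centralizer (N : Set Γ)) ≠ 1 := by
    intro h
    exact hAbot (Subgroup.eq_bot_of_card_eq _ h)
  obtain ⟨r, hr, hrA⟩ := Nat.exists_prime_and_dvd hcardA
  haveI : Fact r.Prime := ⟨hr⟩
  have hVn : (omegaAb r (N ⊓ centralizer (N : Set Γ)) hAc).Normal := omegaAb_normal _ hAc
  have hVH : omegaAb r (N ⊓ centralizer (N : Set Γ)) hAc ≤ H :=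
    (omegaAb_le _ hAc).trans (inf_le_left.trans hNH)
  have hVc : ∀ x ∈ omegaAb r (N ⊓ centralizer (N : Set Γ)) hAc,
      ∀ y ∈ omegaAb r (N ⊓ centralizer (N : Set Γ)) hAc, x * y = y * x :=
    fun x hx y hy => hAc x (omegaAb_le _ hAc hx) y (omegaAb_le _ hAc hy)
  have hVr : IsPGroup r ↥(omegaAb r (N ⊓ centralizer (N : Set Γ)) hAc) := by
    intro v
    refine ⟨1, ?_⟩
    rw [pow_one]
    exact Subtype.ext v.2.2
  have hVbot : omegaAb r (N ⊓ centralizer (N : Set Γ)) hAc ≠ ⊥ := by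
    obtain ⟨x, hx⟩ := exists_prime_orderOf_dvd_card' r hrA
    intro hbot
    have h1 : (x : Γ) ∈ omegaAb r (N ⊓ centralizer (N : Set Γ)) hAc := by
      refine ⟨x.2, ?_⟩
      have h2 : x ^ r = 1 := by rw [← hx]; exact pow_orderOf_eq_one x
      exact congrArg Subtype.val h2
    rw [hbot, Subgroup.mem_bot] at h1
    have h3 : x = 1 := Subtype.ext h1
    rw [h3, orderOf_one] at hx
    exact hr.one_lt.ne hx
  generalize omegaAb r (N ⊓ centralizer (N : Set Γ)) hAc = V at hVn hVH hVc hVr hVbot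
  -- Sylow `q`-subgroups for `q ≠ r` centralize `V`
  have hcent : ∀ q : ℕ, ∀ _ : Fact q.Prime, q ≠ r → ∀ Q' : Sylow q ↥H,
      (Q' : Subgroup ↥H).map H.subtype ≤ centralizer (V : Set Γ) := by
    intro q hq hqr Q'
    obtain ⟨h, hh, hha⟩ := exists_mul_mem_normalizer_sylow H Q' a
    have hQH : (Q' : Subgroup ↥H).map H.subtype ≤ H := map_subtype_le _
    have hQq : IsPGroup q ↥((Q' : Subgroup ↥H).map H.subtype) := Q'.2.map H.subtype
    have hcop : (Nat.card V).Coprime (Nat.card ↥((Q' : Subgroup ↥H).map H.subtype)) := by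
      obtain ⟨k, hk⟩ := IsPGroup.iff_card.mp hVr
      obtain ⟨l, hl⟩ := IsPGroup.iff_card.mp hQq
      rw [hk, hl]
      exact Nat.Coprime.pow k l ((Nat.coprime_primes hr hq.out).mpr (Ne.symm hqr))
    have hres := kegel_norm_lemma p hp V hVc _ (h * a) hha hcop (fun y hy v hv => by
      have h1 := hk.2 (v * y * h) (H.mul_mem (H.mul_mem (hVH hv) (hQH hy)) hh)
      rwa [mul_assoc (v * y) h a] at h1)
    intro z hz
    rw [mem_centralizer_iff]
    intro v hv
    have h1 := hres z hz v hv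
    calc v * z = (z * v * z⁻¹) * z := by rw [h1]
      _ = z * v := by group
  -- a fixed point of a Sylow `r`-subgroup
  obtain ⟨z₀, hz₀V, hz₀1, hz₀S⟩ := exists_conj_fixed_of_pgroup
    (((default : Sylow r ↥H) : Subgroup ↥H).map H.subtype) V
    ((default : Sylow r ↥H).2.map H.subtype) hVr hVbot
  have hD : (centralizer ({z₀} : Set Γ)).subgroupOf H = ⊤ := by
    apply eq_top_of_forall_sylow_le
    intro q hq
    by_cases hqr : q = r
    · subst hqr
      refine ⟨default, ?_⟩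
      intro s hs
      rw [mem_subgroupOf, mem_centralizer_iff]
      intro z hz
      rw [Set.mem_singleton_iff] at hz
      subst hz
      have h1 := hz₀S (s : Γ) ⟨s, hs, rfl⟩
      calc z * (s : Γ) = ((s : Γ) * z * (s : Γ)⁻¹) * s := by rw [h1]
        _ = s * z := by group
    · refine ⟨default, ?_⟩
      intro s hs
      rw [mem_subgroupOf]
      have h1 := hcent q hq hqr default ⟨s, hs, rfl⟩
      exact centralizer_le (Set.singleton_subset_iff.mpr hz₀V) h1
  have hz₀ : z₀ ∈ H ⊓ centralizer (H : Set Γ) := by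
    refine Subgroup.mem_inf.mpr ⟨hVH hz₀V, ?_⟩
    rw [mem_centralizer_iff]
    intro h hh
    have h1 : (⟨h, hh⟩ : ↥H) ∈ (centralizer ({z₀} : Set Γ)).subgroupOf H := by rw [hD]; trivial
    rw [mem_subgroupOf, mem_centralizer_iff] at h1
    exact (h1 z₀ rfl).symm
  rw [hZ, Subgroup.mem_bot] at hz₀
  exact hz₀1 hz₀

/-- The inductive step of Kegel's theorem, for `Γ = H⟨a⟩`. -/
theorem kegel_step {Γ : Type u} [Group Γ] [Finite Γ] (p : ℕ) (hp : p.Prime)
    (H : Subgroup Γ) [H.Normal] (a : Γ) (hgen : H ⊔ zpowers a = ⊤) (hk : KegelPair p H a)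
    (IH : ∀ (Γ₁ : Type u) [Group Γ₁] [Finite Γ₁] (H₁ : Subgroup Γ₁) (a₁ : Γ₁),
      KegelPair p H₁ a₁ → Nat.card H₁ < Nat.card H → Group.IsNilpotent ↥H₁) :
    Group.IsNilpotent ↥H := by
  by_contra hnot
  have hZ := kegel_center p H a hk IH hnot
  have hmin := kegel_minimal p hp H a hk IH hZ
  have hnp : ∀ r : ℕ, r.Prime → ¬ IsPGroup r ↥H := by
    intro r hr h
    haveI : Fact r.Prime := ⟨hr⟩
    exact hnot h.isNilpotent
  -- an odd prime divisor
  obtain ⟨r, hr, hr2, hrH⟩ : ∃ r : ℕ, r.Prime ∧ r ≠ 2 ∧ r ∣ Nat.card ↥H := by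
    by_contra hcon
    push Not at hcon
    apply hnp 2 Nat.prime_two
    have h1 : Nat.card ↥H = 2 ^ _ :=
      Nat.eq_prime_pow_of_unique_prime_dvd Nat.card_pos.ne'
        (fun {d} hd hdvd => by by_contra hne; exact hcon d hd hne hdvd)
    exact IsPGroup.of_card h1
  haveI : Fact r.Prime := ⟨hr⟩
  obtain ⟨R', hR'⟩ : ∃ R' : Sylow r ↥H, R' = default := ⟨default, rfl⟩
  have hRr : IsPGroup r ↥((R' : Subgroup ↥H).map H.subtype) := R'.2.map H.subtype
  have hRH : (R' : Subgroup ↥H).map H.subtype ≤ H := map_subtype_le _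
  have hRbot : (R' : Subgroup ↥H).map H.subtype ≠ ⊥ := by
    intro h
    have h1 : (R' : Subgroup ↥H) = ⊥ :=
      (Subgroup.map_eq_bot_iff_of_injective _ H.subtype_injective).mp h
    exact R'.ne_bot_of_dvd_card hrH h1
  obtain ⟨h₁, hh₁, ha₁⟩ := exists_mul_mem_normalizer_sylow H R' a
  have hk₁ : KegelPair p H (h₁ * a) := hk.mul_left hh₁
  have hJ := thompsonLike_elem.{u} r hr2
  generalize hRdef : (R' : Subgroup ↥H).map H.subtype = R at hRr hRH hRbot ha₁
  -- the normalizer of `J(R)` in `H`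
  have hN1 : Group.IsNilpotent
      ↥(H ⊓ normalizer (JOf (fun (S : Type u) [Group S] => Cfsg.thompsonSubgroup r S) R : Set Γ)) := by
    apply IH Γ _ (h₁ * a) (hk₁.sub inf_le_left
      (mem_normalizer_inf hk₁.1 (le_normalizer (normalizer_le_normalizer_JOf hJ R ha₁))))
    apply card_lt_card_of_lt
    refine lt_of_le_of_ne inf_le_left ?_
    intro heq
    have hle : H ≤ normalizer (JOf (fun (S : Type u) [Group S] => Cfsg.thompsonSubgroup r S) R : Set Γ) :=
      inf_eq_left.mp heq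
    have hJn : (JOf (fun (S : Type u) [Group S] => Cfsg.thompsonSubgroup r S) R).Normal :=
      normal_of_gen hgen _ hle hh₁ (normalizer_le_normalizer_JOf hJ R ha₁)
    rcases hmin _ hJn ((JOf_le R).trans hRH) with h | h
    · exact JOf_ne_bot hJ R hRr hRbot h
    · apply hnp r hr
      have h2 : H ≤ R := by rw [← h]; exact JOf_le R
      exact hRr.to_le h2
  -- the centralizer of `Z(R)` in `H`
  have hC1 : Group.IsNilpotent
      ↥(H ⊓ centralizer ((R ⊓ centralizer (R : Set Γ) : Subgroup Γ) : Set Γ)) := by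
    apply IH Γ _ (h₁ * a) (hk₁.sub inf_le_left
      (mem_normalizer_inf hk₁.1 (mem_normalizer_centralizer
        (normalizer_le_normalizer_inf_centralizer R ha₁))))
    apply card_lt_card_of_lt
    refine lt_of_le_of_ne inf_le_left ?_
    intro heq
    have hle : H ≤ centralizer ((R ⊓ centralizer (R : Set Γ) : Subgroup Γ) : Set Γ) :=
      inf_eq_left.mp heq
    apply inf_centralizer_ne_bot hRr hRbot
    rw [eq_bot_iff, ← hZ]
    intro z hz
    refine Subgroup.mem_inf.mpr ⟨hRH (Subgroup.mem_inf.mp hz).1, ?_⟩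
    rw [mem_centralizer_iff]
    intro h hh
    exact ((mem_centralizer_iff.mp (hle hh)) z hz).symm
  have hyp : ThHyp r (fun (S : Type u) [Group S] => Cfsg.thompsonSubgroup r S) (R' : Subgroup ↥H) := by
    apply thHyp_sub hJ H (R' : Subgroup ↥H)
    · rw [hRdef]
      exact (ifc_iff_hnpc _).mpr (Cfsg.Agent.Lib.Helper91.hasNormalPComplement_of_nilpotent r hN1)
    · rw [hRdef]
      exact (ifc_iff_hnpc _).mpr (Cfsg.Agent.Lib.Helper91.hasNormalPComplement_of_nilpotent r hC1)
  have hnpc := thompson_odd hJ hr2 R' hyp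
  obtain ⟨K', hK'⟩ := hasNormalPComplement_iff.mp hnpc
  have hKn : (K'.map H.subtype).Normal := by
    constructor
    rintro _ ⟨x', hx', rfl⟩ g
    refine ⟨⟨g * x' * g⁻¹, Normal.conj_mem inferInstance _ x'.2 g⟩, ?_, rfl⟩
    apply hK'.mem_of_coprime
    have h1 := hK'.coprime_of_mem hx'
    have h2 : orderOf (⟨g * x' * g⁻¹, Normal.conj_mem inferInstance _ x'.2 g⟩ : ↥H) = orderOf x' := by
      rw [← Subgroup.orderOf_coe, ← Subgroup.orderOf_coe]
      exact orderOf_injective (MulAut.conj g).toMonoidHom (MulAut.conj g).injective (x' : Γ)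
    rw [h2]; exact h1
  rcases hmin _ hKn (map_subtype_le _) with h | h
  · have h1 : K' = ⊥ := (Subgroup.map_eq_bot_iff_of_injective _ H.subtype_injective).mp h
    obtain ⟨k, hk⟩ := hK'.2.2
    rw [h1, Subgroup.index_bot] at hk
    exact hnp r hr (IsPGroup.of_card hk)
  · have h1 : Nat.card K' = Nat.card ↥H := by
      rw [← Subgroup.card_map_of_injective (K := K') H.subtype_injective, h]
    have h2 := hK'.2.1
    rw [h1] at h2
    exact hr.one_lt.ne' (Nat.eq_one_of_dvd_coprimes h2.symm (dvd_refl r) hrH)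

theorem kegel_nilpotent_aux (p : ℕ) (hp : p.Prime) :
    ∀ (n : ℕ) (Γ : Type u) [Group Γ] [Finite Γ] (H : Subgroup Γ) (a : Γ),
      KegelPair p H a → Nat.card H = n → Group.IsNilpotent ↥H := by
  intro n
  induction n using Nat.strong_induction_on with
  | _ n ih =>
    intro Γ _ _ H a hk hn
    have hle : H ⊔ zpowers a ≤ normalizer (H : Set Γ) :=
      sup_le le_normalizer ((zpowers_le).mpr hk.1)
    have hH₀n : (H.subgroupOf (H ⊔ zpowers a)).Normal :=
      Subgroup.normal_subgroupOf_of_le_normalizer hle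
    have hgen : H.subgroupOf (H ⊔ zpowers a)
        ⊔ zpowers (⟨a, mem_sup_right (mem_zpowers a)⟩ : ↥(H ⊔ zpowers a)) = ⊤ := by
      apply Subgroup.map_injective (H ⊔ zpowers a).subtype_injective
      rw [Subgroup.map_sup, MonoidHom.map_zpowers, ← MonoidHom.range_eq_map, Subgroup.range_subtype,
        Subgroup.map_subgroupOf_eq_of_le le_sup_left]
      rfl
    have hk₀ : KegelPair p (H.subgroupOf (H ⊔ zpowers a))
        (⟨a, mem_sup_right (mem_zpowers a)⟩ : ↥(H ⊔ zpowers a)) := by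
      refine ⟨?_, ?_⟩
      · rw [Subgroup.normalizer_eq_top_iff.mpr hH₀n]; trivial
      · intro h hh
        apply Subtype.ext
        exact hk.2 (h : Γ) (mem_subgroupOf.mp hh)
    have hcard : Nat.card ↥(H.subgroupOf (H ⊔ zpowers a)) = Nat.card ↥H :=
      Nat.card_congr (Subgroup.subgroupOfEquivOfLe (le_sup_left : H ≤ H ⊔ zpowers a)).toEquiv
    have h1 := kegel_step p hp (H.subgroupOf (H ⊔ zpowers a)) _ hgen hk₀
      (fun Γ₁ _ _ H₁ a₁ hk₁ hlt => ih (Nat.card ↥H₁) (by omega) Γ₁ H₁ a₁ hk₁ rfl)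
    exact (Group.isNilpotent_congr (Subgroup.subgroupOfEquivOfLe (le_sup_left : H ≤ H ⊔ zpowers a))).mp h1

/-- **Kegel's theorem** (Hughes–Thompson form): if `a` normalizes the subgroup `H` of the finite
group `Γ` and every element of the coset `H a` has order dividing the prime `p`, then `H` is
nilpotent. -/
theorem kegel_nilpotent {Γ : Type u} [Group Γ] [Finite Γ] (p : ℕ) (hp : p.Prime)
    (H : Subgroup Γ) (a : Γ) (hk : KegelPair p H a) : Group.IsNilpotent ↥H :=
  kegel_nilpotent_aux p hp _ Γ H a hk rfl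

end Cfsg.Agent.Lib.Helper34
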