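import Mathlib
import Cfsg.Agent.Lib.Helper34.Kegel

/-!
# The Hughes–Thompson theorem: the index of a proper Hughes subgroup

If `H` is a proper normal subgroup of the finite group `G` such that every element outside `H`
has order dividing the prime `p`, and `H` is nilpotent and not a `p`-group, then `H` has index `p`.
-/

set_option autoImplicit false
set_option linter.style.haveILetI false

namespace Cfsg.Agent.Lib.Helper34

open Subgroup

/-- Two commuting automorphisms `X`, `Y` of a commutative group such that the norms of `X Y^j`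
(`j < p`) and of `Y^k` (`0 < k < p`) vanish: the group has exponent dividing `p`. -/
theorem rank_two_norm {W : Type*} [CommGroup W] (X Y : MulAut W) (hXY : X * Y = Y * X) (p : ℕ)
    (hp : 0 < p)
    (h1 : ∀ j < p, ∀ w : W, ∏ k ∈ Finset.range p, ((X * Y ^ j) ^ k) w = 1)
    (h2 : ∀ k, 0 < k → k < p → ∀ w : W, ∏ j ∈ Finset.range p, ((Y ^ k) ^ j) w = 1) :
    ∀ w : W, w ^ p = 1 := by
  intro w
  have hcomm : Commute X Y := hXY
  have h3 : ∏ j ∈ Finset.range p, ∏ k ∈ Finset.range p, ((X * Y ^ j) ^ k) w = 1 :=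
    Finset.prod_eq_one (fun j hj => h1 j (Finset.mem_range.mp hj) w)
  rw [Finset.prod_comm] at h3
  obtain ⟨m, rfl⟩ : ∃ m, p = m + 1 := ⟨p - 1, by omega⟩
  have h4 : ∀ k, ∏ j ∈ Finset.range (m + 1), ((X * Y ^ j) ^ k) w
      = (X ^ k) (∏ j ∈ Finset.range (m + 1), ((Y ^ k) ^ j) w) := by
    intro k
    rw [map_prod]
    apply Finset.prod_congr rfl
    intro j _
    have e : (X * Y ^ j) ^ k = X ^ k * (Y ^ k) ^ j := by
      rw [(hcomm.pow_right j).mul_pow, ← pow_mul, ← pow_mul, mul_comm j k]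
    rw [e, MulAut.mul_apply]
  have h5 := Finset.prod_range_succ'
    (fun k => ∏ j ∈ Finset.range (m + 1), ((X * Y ^ j) ^ k) w) m
  rw [h3] at h5
  have h6 : ∏ k ∈ Finset.range m, ∏ j ∈ Finset.range (m + 1), ((X * Y ^ j) ^ (k + 1)) w = 1 := by
    apply Finset.prod_eq_one
    intro k hk
    have hk' := Finset.mem_range.mp hk
    rw [h4, h2 (k + 1) (Nat.succ_pos k) (by omega) w, map_one]
  rw [h6, one_mul] at h5
  rw [h5]
  simp

/-- A finite nilpotent group of order divisible by `q` has a nontrivial central `q`-element. -/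
theorem exists_center_of_nilpotent {N : Type*} [Group N] [Finite N] (hnil : Group.IsNilpotent N)
    (q : ℕ) [Fact q.Prime] (hq : q ∣ Nat.card N) :
    ∃ z ∈ center N, z ≠ 1 ∧ ∃ k : ℕ, z ^ q ^ k = 1 := by
  have hsyl : ∀ (r : ℕ) (_ : Fact r.Prime) (P : Sylow r N), (P : Subgroup N).Normal :=
    (Group.isNilpotent_of_finite_tfae.out 0 3).mp hnil
  obtain ⟨Q, -⟩ : ∃ Q : Sylow q N, Q = default := ⟨default, rfl⟩
  have hQbot : (Q : Subgroup N) ≠ ⊥ := Q.ne_bot_of_dvd_card hq
  have hQn := hsyl q inferInstance Q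
  haveI : Nontrivial ↥(Q : Subgroup N) := (Subgroup.nontrivial_iff_ne_bot _).mpr hQbot
  have hc : Nontrivial (center ↥(Q : Subgroup N)) := Q.2.center_nontrivial
  obtain ⟨z, hz⟩ := exists_ne (1 : center ↥(Q : Subgroup N))
  refine ⟨((z : ↥(Q : Subgroup N)) : N), ?_, ?_, ?_⟩
  · have hD : centralizer ({((z : ↥(Q : Subgroup N)) : N)} : Set N) = ⊤ := by
      apply eq_top_of_forall_sylow_le
      intro r hr
      by_cases hrq : r = q
      · subst hrq
        refine ⟨Q, ?_⟩
        intro s hs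
        rw [mem_centralizer_iff]
        intro y hy
        rw [Set.mem_singleton_iff] at hy
        subst hy
        have h1 := (Subgroup.mem_center_iff.mp z.2) ⟨s, hs⟩
        exact (congrArg Subtype.val h1).symm
      · refine ⟨default, ?_⟩
        intro s hs
        rw [mem_centralizer_iff]
        intro y hy
        rw [Set.mem_singleton_iff] at hy
        subst hy
        have hdis : Disjoint ((default : Sylow r N) : Subgroup N) (Q : Subgroup N) :=
          IsPGroup.disjoint_of_ne r q hrq _ _ (default : Sylow r N).2 Q.2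
        exact (Subgroup.commute_of_normal_of_disjoint _ _ (hsyl r hr default) hQn hdis s _ hs
          (z : ↥(Q : Subgroup N)).2).symm.eq
    rw [Subgroup.mem_center_iff]
    intro g
    have h1 : g ∈ centralizer ({((z : ↥(Q : Subgroup N)) : N)} : Set N) := by rw [hD]; trivial
    exact (mem_centralizer_iff.mp h1 _ rfl).symm
  · intro h
    apply hz
    exact Subtype.ext (Subtype.ext h)
  · obtain ⟨k, hk⟩ := Q.2 (z : ↥(Q : Subgroup N))
    exact ⟨k, congrArg Subtype.val hk⟩

/-- **Hughes–Thompson**: a proper normal nilpotent non-`p`-subgroup outside of which every element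
has order dividing `p` has index `p`. -/
theorem hughes_index {G : Type*} [Group G] [Finite G] (p : ℕ) (hp : p.Prime)
    (H : Subgroup G) [hHn : H.Normal] (hH : H ≠ ⊤) (hout : ∀ g : G, g ∉ H → g ^ p = 1)
    (hnil : Group.IsNilpotent ↥H) (hnp : ¬ IsPGroup p ↥H) : H.index = p := by
  classical
  haveI : Fact p.Prime := ⟨hp⟩
  have hQp : IsPGroup p (G ⧸ H) := by
    intro g
    obtain ⟨g, rfl⟩ := QuotientGroup.mk_surjective g
    refine ⟨1, ?_⟩
    rw [pow_one, ← QuotientGroup.mk_pow]
    by_cases hg : g ∈ H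
    · exact (QuotientGroup.eq_one_iff _).mpr (H.pow_mem hg p)
    · rw [hout g hg]; rfl
  have hnt : Nontrivial (G ⧸ H) := by
    by_contra h
    rw [not_nontrivial_iff_subsingleton] at h
    exact hH (QuotientGroup.subgroup_eq_top_of_subsingleton H h)
  have hcn : Nontrivial (center (G ⧸ H)) := hQp.center_nontrivial
  obtain ⟨⟨ybar, hyc⟩, hy1⟩ := exists_ne (1 : center (G ⧸ H))
  obtain ⟨y, rfl⟩ := QuotientGroup.mk_surjective ybar
  have hyH : y ∉ H := fun h => hy1 (Subtype.ext ((QuotientGroup.eq_one_iff y).mpr h))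
  have hyk : ∀ k, 0 < k → k < p → y ^ k ∉ H := by
    intro k hk0 hkp hmem
    obtain ⟨m, -, hm⟩ := Nat.exists_mul_mod_eq_one_of_coprime
      (Nat.coprime_of_lt_prime hk0.ne' hkp hp).symm hp.one_lt
    have h1 : y = (y ^ k) ^ m := by
      rw [← pow_mul, pow_eq_pow_mod (k * m) (hout y hyH), hm, pow_one]
    apply hyH
    rw [h1]
    exact H.pow_mem hmem m
  by_contra hidx
  have hx : ∃ x : G, ∀ j : ℕ, x * y ^ j ∉ H := by
    by_contra hcon
    push Not at hcon
    apply hidx
    have htop : zpowers (y : G ⧸ H) = ⊤ := by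
      rw [eq_top_iff]
      intro xbar _
      obtain ⟨x, rfl⟩ := QuotientGroup.mk_surjective xbar
      obtain ⟨j, hj⟩ := hcon x
      rw [Subgroup.mem_zpowers_iff]
      refine ⟨-(j : ℤ), ?_⟩
      have h1 : ((x * y ^ j : G) : G ⧸ H) = 1 := (QuotientGroup.eq_one_iff _).mpr hj
      rw [QuotientGroup.mk_mul, QuotientGroup.mk_pow] at h1
      rw [zpow_neg, zpow_natCast]
      exact (eq_inv_of_mul_eq_one_left h1).symm
    have hord : orderOf (y : G ⧸ H) = p := by
      apply orderOf_eq_prime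
      · rw [← QuotientGroup.mk_pow, hout y hyH]; rfl
      · intro h; exact hyH ((QuotientGroup.eq_one_iff y).mp h)
    rw [Subgroup.index_eq_card, ← Subgroup.card_top (G := G ⧸ H), ← htop, Nat.card_zpowers, hord]
  obtain ⟨x, hx⟩ := hx
  have hZn : (H ⊓ centralizer (H : Set G)).Normal := inferInstance
  have hZc : ∀ a ∈ H ⊓ centralizer (H : Set G), ∀ b ∈ H ⊓ centralizer (H : Set G),
      a * b = b * a := by
    intro a ha b hb
    exact (mem_centralizer_iff.mp (Subgroup.mem_inf.mp hb).2 a (Subgroup.mem_inf.mp ha).1)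
  letI : CommGroup ↥(H ⊓ centralizer (H : Set G)) :=
    { (inferInstance : Group ↥(H ⊓ centralizer (H : Set G))) with
      mul_comm := fun a b => Subtype.ext (hZc a a.2 b b.2) }
  let ρ : G →* MulAut ↥(H ⊓ centralizer (H : Set G)) := MulAut.conjNormal
  have hρ : ∀ (g : G) (v : ↥(H ⊓ centralizer (H : Set G))),
      ((ρ g v : ↥(H ⊓ centralizer (H : Set G))) : G) = g * v * g⁻¹ := fun g v => rfl
  have key : ∀ (b : G) (v : ↥(H ⊓ centralizer (H : Set G))) (n : ℕ),
      ((v : G) * b) ^ n
        = ((∏ i ∈ Finset.range n, ρ (b ^ i) v : ↥(H ⊓ centralizer (H : Set G))) : G) * b ^ n := by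
    intro b v n
    induction n with
    | zero => simp
    | succ n ih =>
      rw [pow_succ, ih, Finset.prod_range_succ, Subgroup.coe_mul, pow_succ, hρ]
      group
  have hnorm : ∀ g : G, g ∉ H → ∀ v : ↥(H ⊓ centralizer (H : Set G)),
      ∏ i ∈ Finset.range p, ρ (g ^ i) v = 1 := by
    intro g hg v
    have h1 := key g v p
    have hvg : (v : G) * g ∉ H := by
      intro h
      apply hg
      have h2 := H.mul_mem (H.inv_mem (Subgroup.mem_inf.mp v.2).1) h
      rwa [inv_mul_cancel_left] at h2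
    rw [hout _ hvg, hout g hg, mul_one] at h1
    exact Subtype.ext h1.symm
  have hρH : ∀ h ∈ H, ρ h = 1 := by
    intro h hh
    ext v
    rw [hρ, MulAut.one_apply]
    have h1 := mem_centralizer_iff.mp (Subgroup.mem_inf.mp v.2).2 h hh
    rw [h1, mul_inv_cancel_right]
  have hXY : ρ x * ρ y = ρ y * ρ x := by
    have hc : x * y * x⁻¹ * y⁻¹ ∈ H := by
      have h1 := (Subgroup.mem_center_iff.mp hyc) (x : G ⧸ H)
      apply (QuotientGroup.eq_one_iff _).mp
      rw [QuotientGroup.mk_mul, QuotientGroup.mk_mul, QuotientGroup.mk_mul, QuotientGroup.mk_inv,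
        QuotientGroup.mk_inv, h1]
      group
    have h2 : x * y = (x * y * x⁻¹ * y⁻¹) * (y * x) := by group
    rw [← map_mul, ← map_mul, h2, map_mul, hρH _ hc, one_mul]
  have hall := rank_two_norm (ρ x) (ρ y) hXY p hp.pos
    (fun j _ w => by
      have h1 := hnorm (x * y ^ j) (hx j) w
      simpa [map_pow, map_mul] using h1)
    (fun k hk0 hkp w => by
      have h1 := hnorm (y ^ k) (hyk k hk0 hkp) w
      simpa [map_pow] using h1)
  obtain ⟨q, hq, hqp, hqH⟩ : ∃ q : ℕ, q.Prime ∧ q ≠ p ∧ q ∣ Nat.card ↥H := by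
    by_contra hcon
    push Not at hcon
    apply hnp
    have h1 : Nat.card ↥H = p ^ _ :=
      Nat.eq_prime_pow_of_unique_prime_dvd Nat.card_pos.ne'
        (fun {d} hd hdvd => by by_contra hne; exact hcon d hd hne hdvd)
    exact IsPGroup.of_card h1
  haveI : Fact q.Prime := ⟨hq⟩
  obtain ⟨z, hzc, hz1, k, hzk⟩ := exists_center_of_nilpotent hnil q hqH
  have hzZ : (z : G) ∈ H ⊓ centralizer (H : Set G) := by
    refine Subgroup.mem_inf.mpr ⟨z.2, ?_⟩
    rw [mem_centralizer_iff]
    intro h hh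
    have h1 := (Subgroup.mem_center_iff.mp hzc) ⟨h, hh⟩
    exact congrArg Subtype.val h1
  have hzp := hall ⟨(z : G), hzZ⟩
  apply hz1
  have hzp2 : (z : G) ^ p = 1 := congrArg Subtype.val hzp
  have hzp' : z ^ p = 1 := Subtype.ext hzp2
  have h1 : orderOf z ∣ p := orderOf_dvd_of_pow_eq_one hzp'
  have h2 : orderOf z ∣ q ^ k := orderOf_dvd_of_pow_eq_one hzk
  have h3 : Nat.Coprime p (q ^ k) :=
    Nat.Coprime.pow_right k ((Nat.coprime_primes hp hq).mpr hqp.symm)
  exact orderOf_eq_one_iff.mp (Nat.eq_one_of_dvd_coprimes h3 h1 h2)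

end Cfsg.Agent.Lib.Helper34
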