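import Mathlib
import Cfsg.Prelude.Def_LocalEven
import Cfsg.Agent.Lib.Helper34.ThompsonPC
import Cfsg.Agent.Lib.Helper34.Offender
import Cfsg.Agent.Lib.Helper34.S4Config

/-!
# The endgame of Thompson's theorem for `p = 2`: the symmetric group of degree four is involved
-/

set_option autoImplicit false

namespace Cfsg.Agent.Lib.Helper34

open Subgroup
open Cfsg.Agent.Lib.Helper54
open scoped IsMulCommutative

theorem mem_normalizer_of_forall_conj_mem {G : Type*} [Group G] [Finite G] (H : Subgroup G) (g : G)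
    (h : ∀ x ∈ H, g * x * g⁻¹ ∈ H) : g ∈ normalizer (H : Set G) := by
  apply mem_normalizer_of_map_conj_eq_self
  apply Subgroup.eq_of_le_of_card_ge
  · rintro _ ⟨x, hx, rfl⟩
    exact h x hx
  · rw [card_map_conj]

/-- The `q`-part of an element mapping to an element of prime order `q`. -/
theorem exists_pow_of_prime_order {G H : Type*} [Group G] [Finite G] [Group H] (ρ : G →* H) (g₀ : G)
    (hq : (orderOf (ρ g₀)).Prime) :
    ∃ n k : ℕ, ρ (g₀ ^ n) = ρ g₀ ∧ (g₀ ^ n) ^ (orderOf (ρ g₀)) ^ k = 1 := by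
  have ho : orderOf g₀ ≠ 0 := (orderOf_pos g₀).ne'
  obtain ⟨k, m, hm, hkm⟩ := Nat.exists_eq_pow_mul_and_not_dvd ho (orderOf (ρ g₀)) hq.ne_one
  have hcop : Nat.Coprime m (orderOf (ρ g₀)) := ((Nat.Prime.coprime_iff_not_dvd hq).mpr hm).symm
  obtain ⟨j, -, hj⟩ := Nat.exists_mul_mod_eq_one_of_coprime hcop hq.one_lt
  refine ⟨m * j, k, ?_, ?_⟩
  · rw [map_pow, ← pow_mod_orderOf, hj, pow_one]
  · rw [← pow_mul]
    have e : m * j * orderOf (ρ g₀) ^ k = orderOf g₀ * j := by rw [hkm]; ring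
    rw [e, pow_mul, pow_orderOf_eq_one, one_pow]

/-- **The even endgame**: in the final configuration of a minimal counterexample for `p = 2`, the
symmetric group of degree four is involved. -/
theorem Endgame.involves_S4 {G : Type*} [Group G] [Finite G] {P U Q V A : Subgroup G}
    (h : Endgame 2 P U Q V A) : Cfsg.Involves (Equiv.Perm (Fin 4)) G := by
  classical
  have hVn := h.V_normal
  have hQn := h.Q_normal
  have hUn := h.U_normal
  have hVc : IsMulCommutative V := h.V_elem.1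
  have hAc := h.A_comm
  have h2f : Fact (Nat.Prime 2) := ⟨Nat.prime_two⟩
  obtain ⟨ρ, hρdef⟩ : ∃ ρ : G →* MulAut V, ρ = MulAut.conjNormal := ⟨_, rfl⟩
  have hρ : ∀ (g : G) (v : V), ((ρ g v : V) : G) = g * v * g⁻¹ := by
    intro g v
    rw [hρdef]
    exact MulAut.conjNormal_apply g v
  have hker : ∀ g : G, ρ g = 1 ↔ g ∈ U := by
    intro g
    rw [← h.cent_V, hρdef]
    exact conjNormal_eq_one_iff V g
  have hkerρ : ρ.ker = U := by
    ext g
    rw [MonoidHom.mem_ker]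
    exact hker g
  have hV2 : ∀ v : V, v ^ 2 = 1 := by
    intro v
    apply Subtype.ext
    simpa using h.V_elem.2 (v : G) v.2
  have hYc : ∀ a ∈ Q.map ρ, ∀ b ∈ Q.map ρ, a * b = b * a := by
    rintro _ ⟨x, hx, rfl⟩ _ ⟨y, hy, rfl⟩
    have h1 : x * y * x⁻¹ * y⁻¹ ∈ U := h.Q_comm (Subgroup.commutator_mem_commutator hx hy)
    have h2 := (hker _).mpr h1
    rw [map_mul, map_mul, map_mul, map_inv, map_inv] at h2
    have h3 := congrArg (· * ρ y * ρ x) h2
    simpa [mul_assoc] using h3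
  have hYodd : Odd (Nat.card (Q.map ρ)) := by
    have h2 := Subgroup.relIndex_ker (K := Q) ρ
    rw [hkerρ] at h2
    rw [← h2]
    exact Nat.coprime_two_right.mp h.Q_index
  have hEc : ∀ a ∈ A.map ρ, ∀ b ∈ A.map ρ, a * b = b * a := by
    rintro _ ⟨a, ha, rfl⟩ _ ⟨b, hb, rfl⟩
    rw [← map_mul, ← map_mul]
    congr 1
    exact congrArg Subtype.val (hAc.is_comm.comm ⟨a, ha⟩ ⟨b, hb⟩)
  have hquad : ∀ a ∈ A, ∀ v ∈ V, a * v * a⁻¹ * v⁻¹ ∈ A := by
    intro a ha v hv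
    have h1 : v * a⁻¹ * v⁻¹ ∈ A := (mem_normalizer_iff.mp (h.V_norm_A hv) a⁻¹).mp (A.inv_mem ha)
    have e : a * v * a⁻¹ * v⁻¹ = a * (v * a⁻¹ * v⁻¹) := by group
    rw [e]; exact A.mul_mem ha h1
  have hE2 : ∀ e ∈ A.map ρ, e * e = 1 := by
    rintro _ ⟨a, ha, rfl⟩
    ext v
    rw [MulAut.mul_apply, MulAut.one_apply, hρ, hρ]
    have hc : a * v * a⁻¹ * (v : G)⁻¹ ∈ A := hquad a ha v v.2
    have hcV : a * v * a⁻¹ * (v : G)⁻¹ ∈ V := V.mul_mem (hVn.conj_mem v v.2 a) (V.inv_mem v.2)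
    have hcomm : a * (a * v * a⁻¹ * (v : G)⁻¹) = (a * v * a⁻¹ * (v : G)⁻¹) * a :=
      congrArg Subtype.val (hAc.is_comm.comm ⟨a, ha⟩ ⟨_, hc⟩)
    have hsq : (a * v * a⁻¹ * (v : G)⁻¹) * (a * v * a⁻¹ * (v : G)⁻¹) = 1 := by
      rw [← pow_two]; exact h.V_elem.2 _ hcV
    calc a * (a * v * a⁻¹) * a⁻¹ = (a * (a * v * a⁻¹ * (v : G)⁻¹)) * v * a⁻¹ := by group
      _ = ((a * v * a⁻¹ * (v : G)⁻¹) * a) * v * a⁻¹ := by rw [hcomm]
      _ = (a * v * a⁻¹ * (v : G)⁻¹) * (a * v * a⁻¹ * (v : G)⁻¹) * v := by group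
      _ = v := by rw [hsq, one_mul]
  have hEY : ∀ e ∈ A.map ρ, ∀ y ∈ Q.map ρ, e * y * e⁻¹ ∈ Q.map ρ := by
    rintro _ ⟨a, ha, rfl⟩ _ ⟨y, hy, rfl⟩
    exact ⟨a * y * a⁻¹, hQn.conj_mem y hy a, by rw [map_mul, map_mul, map_inv]⟩
  have hfaith : ∀ e ∈ A.map ρ, (∀ y ∈ Q.map ρ, e * y = y * e) → e = 1 := by
    rintro _ ⟨a, ha, rfl⟩ hcent
    rw [hker]
    apply h.faithful a (h.A_le ha)
    intro y hy
    rw [← hker, map_mul, map_mul, map_mul, map_inv, map_inv, hcent _ ⟨y, hy, rfl⟩]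
    group
  have hEne : A.map ρ ≠ ⊥ := by
    intro hbot
    apply h.A_not_le
    intro a ha
    rw [← hker]
    have h1 : ρ a ∈ A.map ρ := ⟨a, ha, rfl⟩
    rw [hbot, Subgroup.mem_bot] at h1
    exact h1
  have hoff : Nat.card V ≤ Nat.card (A.map ρ) * Nat.card (fixedOf (A.map ρ)) := by
    have h1 : Nat.card (A.map ρ) * Nat.card ↥(A ⊓ U) = Nat.card A := by
      have h2 := Subgroup.relIndex_ker (K := A) ρ
      rw [hkerρ] at h2
      have h3 := Subgroup.card_mul_index (U.subgroupOf A)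
      have h4 : Nat.card (U.subgroupOf A) = Nat.card ↥(A ⊓ U) := by
        rw [inf_comm, ← Subgroup.inf_subgroupOf_right U A]
        exact Nat.card_congr (Subgroup.subgroupOfEquivOfLe inf_le_right).toEquiv
      rw [h4] at h3
      rw [← h2, ← h3, mul_comm]
      rfl
    have h2 : Nat.card ↥(V ⊓ A) ≤ Nat.card (fixedOf (A.map ρ)) := by
      have hle : V ⊓ A ≤ (fixedOf (A.map ρ)).map V.subtype := by
        intro v hv
        obtain ⟨hvV, hvA⟩ := Subgroup.mem_inf.mp hv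
        refine ⟨⟨v, hvV⟩, ?_, rfl⟩
        rintro _ ⟨a, ha, rfl⟩
        apply Subtype.ext
        rw [hρ]
        show a * v * a⁻¹ = v
        have h3 : a * v = v * a := congrArg Subtype.val (hAc.is_comm.comm ⟨a, ha⟩ ⟨v, hvA⟩)
        rw [h3]; group
      calc Nat.card ↥(V ⊓ A) ≤ Nat.card ↥((fixedOf (A.map ρ)).map V.subtype) :=
            Subgroup.card_le_of_le hle
        _ = Nat.card (fixedOf (A.map ρ)) := Subgroup.card_map_of_injective V.subtype_injective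
    have h3 := h.offender
    rw [← h1] at h3
    have hpos : 0 < Nat.card ↥(A ⊓ U) := Nat.card_pos
    have h4 : Nat.card V * Nat.card ↥(A ⊓ U)
        ≤ (Nat.card (A.map ρ) * Nat.card (fixedOf (A.map ρ))) * Nat.card ↥(A ⊓ U) := by
      calc Nat.card V * Nat.card ↥(A ⊓ U)
          ≤ Nat.card (A.map ρ) * Nat.card ↥(A ⊓ U) * Nat.card ↥(V ⊓ A) := h3
        _ ≤ Nat.card (A.map ρ) * Nat.card ↥(A ⊓ U) * Nat.card (fixedOf (A.map ρ)) :=
            Nat.mul_le_mul_left _ h2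
        _ = (Nat.card (A.map ρ) * Nat.card (fixedOf (A.map ρ))) * Nat.card ↥(A ⊓ U) := by ring
    exact Nat.le_of_mul_le_mul_right h4 hpos
  obtain ⟨y, hyY, e, heE, hq, hq2, hey, hW4, hWfix, w₁, hw₁, hew₁⟩ :=
    exists_config_of_offender hV2 (Q.map ρ) hYc hYodd (A.map ρ) hEc hE2 hEY hfaith hEne hoff
  obtain ⟨g₀, hg₀Q, rfl⟩ := hyY
  obtain ⟨a, haA, rfl⟩ := heE
  obtain ⟨n, k, hgρ, hgk⟩ := exists_pow_of_prime_order ρ g₀ hq
  obtain ⟨g, hgdef⟩ : ∃ g : G, g = g₀ ^ n := ⟨_, rfl⟩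
  rw [← hgdef] at hgρ hgk
  obtain ⟨q, hqdef⟩ : ∃ q : ℕ, q = orderOf (ρ g₀) := ⟨_, rfl⟩
  rw [← hqdef] at hq hq2 hgk
  rw [← hgρ] at hey hW4 hWfix hw₁ hqdef
  have hqf : Fact q.Prime := ⟨hq⟩
  have hρgq : ρ g ^ q = 1 := by rw [hqdef]; exact pow_orderOf_eq_one _
  have hcop2q : Nat.Coprime 2 q := (Nat.coprime_primes Nat.prime_two hq).mpr (Ne.symm hq2)
  -- `g ^ q = 1`
  have hgq : g ^ q = 1 := by
    have h1 : g ^ q ∈ U := by rw [← hker, map_pow]; exact hρgq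
    obtain ⟨l, hl⟩ := h.U_pgroup ⟨g ^ q, h1⟩
    have hl' : (g ^ q) ^ 2 ^ l = 1 := by
      have := congrArg Subtype.val hl
      simpa using this
    have h2 : (g ^ q) ^ q ^ k = 1 := by rw [← pow_mul, mul_comm, pow_mul, hgk, one_pow]
    have h3 : orderOf (g ^ q) = 1 :=
      Nat.eq_one_of_dvd_coprimes (Nat.Coprime.pow l k hcop2q) (orderOf_dvd_of_pow_eq_one hl')
        (orderOf_dvd_of_pow_eq_one h2)
    exact orderOf_eq_one_iff.mp h3
  have hg1 : g ≠ 1 := by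
    intro h1
    rw [h1, map_one, orderOf_one] at hqdef
    exact hq.ne_one hqdef
  have hgord : orderOf g = q := orderOf_eq_prime hgq hg1
  -- the element `t`
  have hX : IsPGroup q (zpowers g) :=
    IsPGroup.of_card (n := 1) (by rw [Nat.card_zpowers, hgord, pow_one])
  have hD : (Nat.card U).Coprime q := by
    obtain ⟨l, hl⟩ := (IsPGroup.iff_card (p := 2)).mp h.U_pgroup
    rw [hl]
    exact Nat.Coprime.pow_left l hcop2q
  have hconj : ∀ x ∈ zpowers g, a * x * a⁻¹ ∈ zpowers g ⊔ U := by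
    rintro _ ⟨i, rfl⟩
    have h1 : a * g ^ i * a⁻¹ * g ^ i ∈ U := by
      rw [← hker, map_mul, map_mul, map_mul, map_inv, map_zpow]
      have h2 : ρ a * ρ g ^ i * (ρ a)⁻¹ = (ρ a * ρ g * (ρ a)⁻¹) ^ i := by
        rw [conj_zpow]
      rw [h2, hey, inv_zpow, inv_mul_cancel]
    have e1 : a * g ^ i * a⁻¹ = (a * g ^ i * a⁻¹ * g ^ i) * (g ^ i)⁻¹ := by group
    have h3 : (a * g ^ i * a⁻¹ * g ^ i) * (g ^ i)⁻¹ ∈ U ⊔ zpowers g :=
      Subgroup.mul_mem_sup h1 ((zpowers g).inv_mem ⟨i, rfl⟩)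
    show a * g ^ i * a⁻¹ ∈ zpowers g ⊔ U
    rw [e1, sup_comm]
    exact h3
  obtain ⟨d, hd, htn⟩ := exists_mul_mem_normalizer_of_conj_le_sup (zpowers g) U hX hD a hconj
  have hρt : ρ (d * a) = ρ a := by rw [map_mul, (hker d).mpr hd, one_mul]
  -- the four-group
  have hWmem : ∀ w : V, w ∈ commSub (ρ g) → (w : G) ∈ (commSub (ρ g)).map V.subtype :=
    fun w hw => ⟨w, hw, rfl⟩
  have hW0card : Nat.card ((commSub (ρ g)).map V.subtype) = 4 := by
    rw [Subgroup.card_map_of_injective V.subtype_injective]; exact hW4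
  have hgN : g ∈ normalizer (((commSub (ρ g)).map V.subtype : Subgroup G) : Set G) := by
    apply mem_normalizer_of_forall_conj_mem
    rintro _ ⟨w, hw, rfl⟩
    have h1 := hWmem _ (commSub_apply_mem hw)
    rw [hρ] at h1
    exact h1
  have htN : d * a ∈ normalizer (((commSub (ρ g)).map V.subtype : Subgroup G) : Set G) := by
    apply mem_normalizer_of_forall_conj_mem
    rintro _ ⟨w, hw, rfl⟩
    have h1 := hWmem _ (commSub_mem_of_invert hey hw)
    rw [← hρt, hρ] at h1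
    exact h1
  have hw₁1 : w₁ ≠ 1 := by
    intro h1
    rw [h1, map_one] at hew₁
    exact hew₁ rfl
  apply involves_perm_four_of_subgroups ((commSub (ρ g)).map V.subtype)
    (normalizer ((zpowers g : Subgroup G) : Set G) ⊓
      normalizer (((commSub (ρ g)).map V.subtype : Subgroup G) : Set G))
    inf_le_right ?_ hW0card g (d * a)
    (Subgroup.mem_inf.mpr ⟨le_normalizer (mem_zpowers g), hgN⟩)
    (Subgroup.mem_inf.mpr ⟨htn, htN⟩) q hq hq2 hgq ?_ ?_ ?_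
  · -- `W ∩ N₀ = 1`
    rw [Subgroup.eq_bot_iff_forall]
    intro x hx
    obtain ⟨hxW, hxN⟩ := Subgroup.mem_inf.mp hx
    obtain ⟨w, hw, rfl⟩ := hxW
    have hwn : (w : G) ∈ normalizer ((zpowers g : Subgroup G) : Set G) := (Subgroup.mem_inf.mp hxN).1
    have h1 : (w : G) * g * (w : G)⁻¹ ∈ zpowers g := (mem_normalizer_iff.mp hwn g).mp (mem_zpowers g)
    have h2 : (w : G) * g * (w : G)⁻¹ * g⁻¹ ∈ zpowers g :=
      (zpowers g).mul_mem h1 ((zpowers g).inv_mem (mem_zpowers g))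
    have h3 : (w : G) * g * (w : G)⁻¹ * g⁻¹ ∈ V := by
      have e1 : (w : G) * g * (w : G)⁻¹ * g⁻¹ = (w : G) * (g * (w : G)⁻¹ * g⁻¹) := by group
      rw [e1]
      exact V.mul_mem w.2 (hVn.conj_mem _ (V.inv_mem w.2) g)
    have h4 : ((w : G) * g * (w : G)⁻¹ * g⁻¹) ^ q = 1 := by
      obtain ⟨i, hi⟩ := h2
      rw [← hi, ← zpow_natCast, ← zpow_mul, mul_comm, zpow_mul, zpow_natCast, hgq, one_zpow]
    have h5 : ((w : G) * g * (w : G)⁻¹ * g⁻¹) ^ 2 = 1 := h.V_elem.2 _ h3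
    have h6 : orderOf ((w : G) * g * (w : G)⁻¹ * g⁻¹) = 1 :=
      Nat.eq_one_of_dvd_coprimes hcop2q (orderOf_dvd_of_pow_eq_one h5)
        (orderOf_dvd_of_pow_eq_one h4)
    have h7 : (w : G) * g * (w : G)⁻¹ * g⁻¹ = 1 := orderOf_eq_one_iff.mp h6
    have h8 : ρ g w = w := by
      apply Subtype.ext
      rw [hρ]
      calc g * (w : G) * g⁻¹ = ((w : G) * g * (w : G)⁻¹ * g⁻¹)⁻¹ * w := by group
        _ = w := by rw [h7, inv_one, one_mul]
    have h9 := hWfix w hw h8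
    rw [h9]; rfl
  · refine ⟨w₁, hWmem w₁ hw₁, ?_⟩
    intro hc
    apply hw₁1
    apply hWfix w₁ hw₁
    apply Subtype.ext
    rw [hρ, hc]; group
  · intro x hx
    obtain ⟨w, hw, rfl⟩ := hx
    have h1 : d * a * (d * a) ∈ U := by
      rw [← hker, map_mul, hρt]
      exact hE2 _ ⟨a, haA, rfl⟩
    rw [← h.cent_V] at h1
    exact ((mem_centralizer_iff.mp h1) w w.2).symm
  · refine ⟨w₁, hWmem w₁ hw₁, ?_⟩
    intro hc
    apply hew₁
    apply Subtype.ext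
    rw [← hρt, hρ, hc]; group

end Cfsg.Agent.Lib.Helper34
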