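import Mathlib
import Cfsg.Prelude.Def_Transfer
import Cfsg.Prelude.Def_PLocal
import Cfsg.Agent.Lib.Helper34.JInstances

/-!
# The abelian-version Thompson subgroup is Thompson-like (any prime `p`)
-/

set_option autoImplicit false

namespace Cfsg.Agent.Lib.Helper34

open Subgroup
open Cfsg.Agent.Lib.Helper11

universe u

theorem maxAb_nonempty (S : Type u) [Group S] [Finite S] :
    (Cfsg.maxAbelianSubgroups S).Nonempty := by
  classical
  let T : Set (Subgroup S) := {A | IsMulCommutative A}
  have hbot : IsMulCommutative (⊥ : Subgroup S) := by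
    refine IsMulCommutative.of_setLike_mul_comm (fun a ha b hb => ?_)
    rw [Subgroup.mem_bot.mp ha, Subgroup.mem_bot.mp hb]
  have hne : Nonempty T := ⟨⟨⊥, hbot⟩⟩
  obtain ⟨⟨A, hA⟩, hmax⟩ := Finite.exists_max (fun A : T => Nat.card ↥(A : Subgroup S))
  exact ⟨A, hA, fun B hB => hmax ⟨B, hB⟩⟩

theorem maxAb_map_equiv {S S' : Type u} [Group S] [Group S'] (e : S ≃* S') {A : Subgroup S}
    (hA : A ∈ Cfsg.maxAbelianSubgroups S) :
    A.map e.toMonoidHom ∈ Cfsg.maxAbelianSubgroups S' := by
  refine ⟨comm_map' _ hA.1, ?_⟩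
  intro B hB
  have h1 := hA.2 (B.map e.symm.toMonoidHom) (comm_map' _ hB)
  rw [Subgroup.card_map_of_injective e.symm.injective] at h1
  rw [Subgroup.card_map_of_injective e.injective]
  exact h1

theorem thompsonSubgroupA_map_equiv {S S' : Type u} [Group S] [Group S'] (e : S ≃* S') :
    (Cfsg.thompsonSubgroupA S).map e.toMonoidHom = Cfsg.thompsonSubgroupA S' := by
  apply le_antisymm
  · rw [Subgroup.map_le_iff_le_comap]
    unfold Cfsg.thompsonSubgroupA
    rw [sSup_le_iff]
    intro A hA
    rw [← Subgroup.map_le_iff_le_comap]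
    exact le_sSup (maxAb_map_equiv e hA)
  · unfold Cfsg.thompsonSubgroupA
    rw [sSup_le_iff]
    intro A' hA'
    have h1 : A'.map e.symm.toMonoidHom ∈ Cfsg.maxAbelianSubgroups S := maxAb_map_equiv e.symm hA'
    have h2 : (A'.map e.symm.toMonoidHom).map e.toMonoidHom = A' := by
      rw [Subgroup.map_map]
      have : e.toMonoidHom.comp e.symm.toMonoidHom = MonoidHom.id S' := by
        ext x; simp
      rw [this, Subgroup.map_id]
    rw [← h2]
    exact Subgroup.map_mono (le_sSup h1)

theorem le_thompsonSubgroupA {S : Type u} [Group S] {A : Subgroup S}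
    (hA : A ∈ Cfsg.maxAbelianSubgroups S) : A ≤ Cfsg.thompsonSubgroupA S :=
  le_sSup hA

theorem thompsonSubgroupA_ne_bot (S : Type u) [Group S] [Finite S] (hnt : Nontrivial S) :
    Cfsg.thompsonSubgroupA S ≠ ⊥ := by
  intro hbot
  obtain ⟨A, hA⟩ := maxAb_nonempty S
  have hle : A ≤ Cfsg.thompsonSubgroupA S := le_thompsonSubgroupA hA
  have h3 : A = ⊥ := le_bot_iff.mp (hbot ▸ hle)
  obtain ⟨x, hx⟩ := exists_ne (1 : S)
  have h1 := hA.2 (zpowers x) inferInstance
  rw [h3, Subgroup.card_bot, Nat.card_zpowers] at h1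
  have h2 : orderOf x = 1 := by
    have := orderOf_pos x
    omega
  exact hx (orderOf_eq_one_iff.mp h2)

theorem thompsonSubgroupA_eq_of_le {S : Type u} [Group S] [Finite S] (T : Subgroup S)
    (hJ : Cfsg.thompsonSubgroupA S ≤ T) :
    (Cfsg.thompsonSubgroupA ↥T).map T.subtype = Cfsg.thompsonSubgroupA S := by
  have key : maxAbIn T = Cfsg.maxAbelianSubgroups S := by
    ext A
    constructor
    · rintro ⟨hAT, hA, hmax⟩
      refine ⟨hA, ?_⟩
      intro B hB
      obtain ⟨A₀, hA₀⟩ := maxAb_nonempty S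
      have h1 := hmax A₀ ((le_thompsonSubgroupA hA₀).trans hJ) hA₀.1
      exact (hA₀.2 B hB).trans h1
    · intro hA
      exact ⟨(le_thompsonSubgroupA hA).trans hJ, hA.1, fun B _ hB => hA.2 B hB⟩
  have him := image_maxAb T
  rw [key] at him
  apply le_antisymm
  · rw [Subgroup.map_le_iff_le_comap]
    unfold Cfsg.thompsonSubgroupA
    rw [sSup_le_iff]
    intro A hA
    rw [← Subgroup.map_le_iff_le_comap]
    apply le_sSup
    rw [← him]
    exact ⟨A, hA, rfl⟩
  · unfold Cfsg.thompsonSubgroupA
    rw [sSup_le_iff]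
    intro A hA
    rw [← him] at hA
    obtain ⟨A', hA', rfl⟩ := hA
    exact Subgroup.map_mono (le_sSup hA')

/-- The abelian-version Thompson subgroup is Thompson-like, for every prime. -/
theorem thompsonLike_ab (p : ℕ) [Fact p.Prime] :
    ThompsonLike p (fun (S : Type u) [Group S] => Cfsg.thompsonSubgroupA S) where
  iso := fun e => thompsonSubgroupA_map_equiv e
  ne_bot := by
    intro S _ _ _ hnt
    exact thompsonSubgroupA_ne_bot S hnt
  eq_of_le := by
    intro S _ _ T _ hJ
    exact thompsonSubgroupA_eq_of_le T hJ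
  repl := by
    intro S _ _ hS V hVn hVe h
    refine repl_generic hS (Cfsg.maxAbelianSubgroups S) (fun A hA => hA.1) ?_ ?_ V hVe h
    · intro A hA A' hcard hc' _
      exact ⟨hc', fun B hB => by rw [hcard]; exact hA.2 B hB⟩
    · intro A hA W hW B hBA hc
      have hBc : IsMulCommutative B := by
        have := hA.1
        exact IsMulCommutative.of_setLike_mul_comm
          (fun a ha b hb => setLike_mul_comm (hBA ha) (hBA hb))
      exact hA.2 (B ⊔ W) (isMulCommutative_sup_of_commute hBc hW.1 hc)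

end Cfsg.Agent.Lib.Helper34
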